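import Groth.Agent.Lib.IdealMul.PowKill
import Groth.Agent.Lib.CohFound.FTSubVan

/-!
# Morphisms on the complement of `V(I)` extend to `I ^ n · G`
-/

set_option autoImplicit false
set_option linter.style.haveILetI false
set_option backward.isDefEq.respectTransparency false
universe u

open CategoryTheory CategoryTheory.Limits AlgebraicGeometry Opposite

namespace Groth.Agent.IdealMulL

variable {X : Scheme.{u}} {U : X.Opens}

theorem image_preimage_ι_eq {V : X.Opens} (hV : V ≤ U) : U.ι ''ᵁ (U.ι ⁻¹ᵁ V) = V := by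
  rw [Scheme.Hom.image_preimage_eq_opensRange_inf, Scheme.Opens.opensRange_ι]
  exact inf_eq_right.2 hV

theorem bijective_unit_app (F : X.Modules) {V : X.Opens} (hV : V ≤ U) :
    Function.Bijective (((Scheme.Modules.restrictAdjunction U.ι).unit.app F).app V) := by
  rw [Scheme.Modules.restrictAdjunction_unit_app_app]
  change Function.Bijective (M1.mres F (U.ι.image_preimage_le V))
  refine ⟨fun a b h => ?_, fun b => ⟨M1.mres F (image_preimage_ι_eq hV).ge b, ?_⟩⟩
  · have h2 := congrArg (M1.mres F (image_preimage_ι_eq hV).ge) h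
    rwa [M1.mres_mres, M1.mres_mres, M1.mres_id, M1.mres_id] at h2
  · rw [M1.mres_mres, M1.mres_id]

/-- A morphism out of a quasi-coherent module vanishing on sections over an affine cover of `U` restricts to zero. -/
theorem restrict_eq_zero_of_cover {M N : X.Modules} [Coh.IsQCoh M] (ψ : M ⟶ N) {κ : Type*}
    (W : κ → X.affineOpens) (hW : ∀ x ∈ U, ∃ k, x ∈ (W k).1)
    (h : ∀ k (m : Γ(M, (W k).1)), ψ.app (W k).1 m = 0) :
    (Scheme.Modules.restrictFunctor U.ι).map ψ = 0 := by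
  ext V t
  show ψ.app (U.ι ''ᵁ V) t = 0
  refine M1.section_ext _ _ fun x hx => ?_
  obtain ⟨k, hk⟩ := hW x (U.ι_image_le V hx)
  obtain ⟨r, m₀, hr, hm⟩ := M1.exists_germ_smul_eq M (W k).2 hk (M.presheaf.germ (U.ι ''ᵁ V) x hx t)
  have e1 : (M1.stalkAb x).map ψ (M.presheaf.germ (U.ι ''ᵁ V) x hx t) =
      N.presheaf.germ (U.ι ''ᵁ V) x hx (ψ.app (U.ι ''ᵁ V) t) := M1.germ_naturality ψ _ x hx t
  have e2 : (M1.stalkAb x).map ψ (M.presheaf.germ (W k).1 x hk m₀) = 0 := by
    refine (M1.germ_naturality ψ (W k).1 x hk m₀).trans ?_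
    rw [h k m₀, map_zero]
  rw [map_zero, ← e1, ← hr.smul_eq_zero, ← CohFound.stL_eq, ← map_smul, hm, CohFound.stL_eq]
  exact e2

/-- Morphisms over `U = X \ V(I)` extend to a power `I ^ n · G`. -/
theorem exists_extend [IsNoetherian X] {G F : X.Modules} (hF : Coh.IsQCoh F) (hG : Coh.IsCoh G)
    (I : X.IdealSheafData) (hU : (U : Set X) = (I.support : Set X)ᶜ)
    (φ : (Scheme.Modules.restrictFunctor U.ι).obj G ⟶ (Scheme.Modules.restrictFunctor U.ι).obj F) :
    ∃ (n : ℕ) (ψ : (Dual3.idealMul (I ^ n)).obj G ⟶ F),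
      (Scheme.Modules.restrictFunctor U.ι).map ψ =
        (Scheme.Modules.restrictFunctor U.ι).map (Dual3.idealMulι (I ^ n) G) ≫ φ := by
  classical
  haveI := hF; haveI := hG.1
  let R := Scheme.Modules.restrictFunctor U.ι
  let adj := Scheme.Modules.restrictAdjunction U.ι
  haveI : QuasiCompact U.ι := M1.quasiCompact_ι U fun V _ => TopologicalSpace.NoetherianSpace.isCompact _
  let B := (Scheme.Modules.pushforward U.ι).obj (R.obj F)
  have hB : Coh.IsQCoh B := M1.isQCoh_push U.ι (M1.isQCoh_restrict hF U.ι)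
  let η : F ⟶ B := adj.unit.app F
  let φ' : G ⟶ B := adj.homEquiv G (R.obj F) φ
  let d : G ⊞ F ⟶ B := biprod.desc φ' (-η)
  let Kι : kernel d ⟶ G ⊞ F := kernel.ι d
  have hK : Coh.IsQCoh (kernel d) := M1.isQCoh_kernel (M1.isQCoh_biprod hG.1 hF) hB _
  let p : kernel d ⟶ G := Kι ≫ biprod.fst
  let q : kernel d ⟶ F := Kι ≫ biprod.snd
  have hpq : p ≫ φ' = q ≫ η := by
    have h : Kι ≫ biprod.desc φ' (-η) = 0 := kernel.condition d
    rw [biprod.desc_eq, Preadditive.comp_add, Preadditive.comp_neg, Preadditive.comp_neg] at h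
    simp only [p, q, Category.assoc]
    rw [← sub_eq_zero, sub_eq_add_neg]
    exact h
  -- finitely many generators over an affine cover of `U`
  obtain ⟨S, hS, hSU⟩ := M1.exists_finite_affine_iSup (U := U) (TopologicalSpace.NoetherianSpace.isCompact (U : Set X))
  haveI := hS.to_subtype
  have hle : ∀ k : S, k.1.1 ≤ U := fun k => by rw [hSU]; exact le_iSup (fun i : S => i.1.1) k
  have hgens : ∀ k : S, ∃ T : Finset Γ(G, k.1.1), Submodule.span Γ(X, k.1.1) (T : Set Γ(G, k.1.1)) = ⊤ := fun k => by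
    haveI : Module.Finite Γ(X, k.1.1) Γ(G, k.1.1) := M1.finite_sections hG.1 hG.2 k.1.2
    exact Module.finite_def.1 ‹_›
  choose T hT using hgens
  have hlift : ∀ a : Σ k : S, T k, ∃ s : Γ(kernel d, a.1.1.1), p.app a.1.1.1 s = a.2.1 := by
    rintro ⟨k, t, ht⟩
    obtain ⟨s, hs⟩ := (bijective_unit_app F (hle k)).2 (φ'.app k.1.1 t)
    let g₁ : G ⟶ G ⊞ F := biprod.inl
    let g₂ : F ⟶ G ⊞ F := biprod.inr
    let f₁ : G ⊞ F ⟶ G := biprod.fst
    have hd : d.app k.1.1 (g₁.app k.1.1 t + g₂.app k.1.1 s) = 0 := by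
      rw [map_add, ← M1.comp_app_apply, ← M1.comp_app_apply,
        show g₁ ≫ d = φ' from biprod.inl_desc _ _, show g₂ ≫ d = -η from biprod.inr_desc _ _]
      exact (congrArg (fun z => φ'.app k.1.1 t + -z) hs).trans (add_neg_cancel _)
    obtain ⟨c, hc⟩ := (M1.Sub.mem_ker d _ _).2 hd
    refine ⟨c, ?_⟩
    show (Kι ≫ f₁).app k.1.1 c = t
    rw [M1.comp_app_apply]
    refine (congrArg (f₁.app k.1.1) hc).trans ?_
    rw [map_add, ← M1.comp_app_apply, ← M1.comp_app_apply, show g₁ ≫ f₁ = 𝟙 G from biprod.inl_fst,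
      show g₂ ≫ f₁ = 0 from biprod.inr_fst]
    show t + 0 = t
    rw [add_zero]
  choose sec hsec using hlift
  obtain ⟨q₀, hq₀, hq₀f, hmem⟩ := CohFound.exists_ft_sub_mem (X := X) hK
    (κ := ULift.{u} (Σ k : S, T k)) (fun a => a.down.1.1.1) (fun a => a.down.1.1.2.isCompact)
    (fun a => sec a.down)
  haveI := hq₀
  have hK₀ : Coh.IsCoh q₀.P := ⟨hq₀, hq₀f⟩
  let pp : q₀.P ⟶ G := q₀.i ≫ p
  let qq : q₀.P ⟶ F := q₀.i ≫ q
  have hppqq : pp ≫ φ' = qq ≫ η := by simp only [pp, qq, Category.assoc, hpq]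
  have hRqq : R.map qq = R.map pp ≫ φ := (adj.homEquiv q₀.P (R.obj F)).injective (by
    rw [adj.homEquiv_naturality_left]
    refine Eq.trans ?_ hppqq.symm
    rw [adj.homEquiv_unit]
    exact (adj.unit.naturality qq).symm)
  -- the cokernel of `pp` vanishes on `U`
  have hcoker : R.map (cokernel.π pp) = 0 := by
    refine restrict_eq_zero_of_cover _ (fun k : S => k.1) (fun x hx => ?_) fun k m => ?_
    · rw [hSU] at hx
      exact TopologicalSpace.Opens.mem_iSup.1 hx
    · have hm : m ∈ Submodule.span Γ(X, k.1.1) (T k : Set Γ(G, k.1.1)) := (hT k).symm ▸ Submodule.mem_top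
      induction hm using Submodule.span_induction with
      | mem t ht =>
        obtain ⟨c, hc⟩ := hmem ⟨⟨k, ⟨t, ht⟩⟩⟩
        have e : pp.app k.1.1 c = t := by
          rw [M1.comp_app_apply, hc]
          exact hsec ⟨k, ⟨t, ht⟩⟩
        rw [← e, ← M1.comp_app_apply, cokernel.condition]
        rfl
      | zero => exact map_zero _
      | add a b _ _ ha hb => rw [map_add, ha, hb, add_zero]
      | smul r a _ ha => rw [Scheme.Modules.Hom.app_smul, ha, smul_zero]
  -- the kernel of `pp` vanishes on `U`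
  have hker : R.map (kernel.ι pp) = 0 := by
    let χ := kernel.ι pp ≫ q₀.i ≫ Kι
    haveI : Mono (R.map (q₀.i ≫ Kι)) := inferInstance
    have h1 : R.map (χ ≫ biprod.fst) = 0 := by
      rw [show χ ≫ biprod.fst = kernel.ι pp ≫ pp by simp [χ, pp, p, Category.assoc], kernel.condition, R.map_zero]
    have h2 : R.map (χ ≫ biprod.snd) = 0 := by
      rw [show χ ≫ biprod.snd = kernel.ι pp ≫ qq by simp [χ, qq, q, Category.assoc], R.map_comp, hRqq,
        ← Category.assoc, ← R.map_comp, kernel.condition, R.map_zero, zero_comp]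
    rw [← cancel_mono (R.map (q₀.i ≫ Kι)), zero_comp, ← R.map_comp]
    show R.map χ = 0
    have e : χ = (χ ≫ biprod.fst) ≫ biprod.inl + (χ ≫ biprod.snd) ≫ biprod.inr := by
      rw [Category.assoc χ, Category.assoc χ, ← Preadditive.comp_add, biprod.total, Category.comp_id]
    rw [e, R.map_add, R.map_comp (χ ≫ biprod.fst), R.map_comp (χ ≫ biprod.snd), h1, h2, zero_comp, zero_comp, add_zero]
  -- powers
  obtain ⟨Tc, hTc⟩ := exists_finite_affine_cover (X := X)
  haveI hcQ : Coh.IsQCoh (cokernel pp) := M1.isQCoh_cokernel hq₀ hG.1 pp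
  have hC : Coh.IsCoh (kernel pp) := M1.isCoh_kernel hK₀ hG.1 pp
  choose k₁ hk₁ using fun W : Tc => exists_pow_le_annihilator I hG hU (cokernel.π pp) hcoker W.1
  choose k₂ hk₂ using fun W : Tc => exists_pow_le_annihilator I hC hU (kernel.ι pp) hker W.1
  obtain ⟨c, hc⟩ := exists_artinRees hK₀ (M1.Sub.ker pp) I (fun W : Tc => W.1)
  let m := c + Finset.univ.sup k₂
  let n := Finset.univ.sup k₁
  -- `pp` is injective on `I ^ m · K₀`
  have hinj : ∀ (W : Tc) (t : Γ(q₀.P, W.1.1)), t ∈ I.ideal W.1 ^ m • (⊤ : Submodule Γ(X, W.1.1) _) →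
      pp.app W.1.1 t = 0 → t = 0 := by
    intro W t ht h0
    have h1 : t ∈ I.ideal W.1 ^ m • (⊤ : Submodule Γ(X, W.1.1) Γ(q₀.P, W.1.1)) ⊓
        secSub (M1.Sub.ker pp) W.1.1 := ⟨ht, (M1.Sub.mem_ker pp _ _).2 h0⟩
    rw [hc m (Nat.le_add_right _ _) W, show m - c = Finset.univ.sup k₂ from Nat.add_sub_cancel_left _ _] at h1
    refine Submodule.smul_induction_on h1 (fun a ha b hb => ?_) (fun a b ha hb => by rw [ha, hb, add_zero])
    obtain ⟨b', rfl⟩ := hb.2
    exact hk₂ W a (Ideal.pow_le_pow_right (Finset.le_sup (Finset.mem_univ W)) ha) b'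
  let P₂ := (Dual3.idealMul (I ^ m)).obj q₀.P
  haveI hP₂ : Coh.IsQCoh P₂ := isQCoh_idl q₀.P _ hq₀
  let g : P₂ ⟶ G := Dual3.idealMulι (I ^ m) q₀.P ≫ pp
  haveI : Mono g := by
    refine Preadditive.mono_of_kernel_zero ?_
    haveI : Coh.IsQCoh (kernel g) := M1.isQCoh_kernel hP₂ hG.1 g
    obtain ⟨c', hc'⟩ := exists_lift_affine (kernel.ι g) (M1.Sub.ker (𝟙 P₂)) (fun W : Tc => W.1) hTc fun W t => by
      rw [M1.Sub.mem_ker]
      show (kernel.ι g).app W.1.1 t = 0
      refine M1.app_injective (Dual3.idealMulι (I ^ m) q₀.P) W.1.1 ?_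
      rw [map_zero]
      refine hinj W _ ?_ ?_
      · rw [← ideal_pow_apply, ← mem_idl]; exact ⟨_, rfl⟩
      · rw [← M1.comp_app_apply, ← M1.comp_app_apply, kernel.condition]
        rfl
    have h0 : (M1.Sub.ker (𝟙 P₂)).i = 0 := by
      have := kernel.condition (𝟙 P₂)
      rwa [Category.comp_id] at this
    rw [← hc', h0, comp_zero]
  haveI : Coh.IsQCoh ((Dual3.idealMul (I ^ (m + n))).obj G) := isQCoh_idl G _ hG.1
  obtain ⟨b, hb⟩ := exists_lift_affine (Dual3.idealMulι (I ^ (m + n)) G) ⟨P₂, g, inferInstance⟩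
    (fun W : Tc => W.1) hTc fun W t => by
      have ht := (mem_idl G (I ^ (m + n)) W.1 _).1 ⟨t, rfl⟩
      rw [ideal_pow_apply, pow_add, Submodule.mul_smul] at ht
      have hsub : I.ideal W.1 ^ n • (⊤ : Submodule Γ(X, W.1.1) Γ(G, W.1.1)) ≤
          LinearMap.range (SchDom.appLin pp W.1.1) := by
        refine Submodule.smul_le.2 fun a ha s _ => ?_
        have h1 : (M1.Sub.im pp).mem W.1.1 (a • s) := by
          rw [M1.Sub.im, M1.Sub.mem_ker, Scheme.Modules.Hom.app_smul]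
          exact hk₁ W a (Ideal.pow_le_pow_right (Finset.le_sup (Finset.mem_univ W)) ha) s
        obtain ⟨u, hu⟩ := h1
        obtain ⟨v, hv⟩ := M1.app_surjective_affine_of_isQCoh hq₀ (M1.Sub.isQCoh_im pp hq₀ hG.1)
          (kernel.lift (cokernel.π pp) pp (cokernel.condition pp)) W.1.2 u
        refine ⟨v, ?_⟩
        show pp.app W.1.1 v = a • s
        rw [← hu, ← hv]
        exact (congrArg (fun χ => χ.app W.1.1 v) (kernel.lift_ι _ _ (cokernel.condition pp))).symm
      have ht' := Submodule.smul_mono (le_refl (I.ideal W.1 ^ m)) hsub ht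
      rw [← Submodule.map_top, ← Submodule.map_smul''] at ht'
      obtain ⟨v, hv, hve⟩ := Submodule.mem_map.1 ht'
      rw [← ideal_pow_apply, ← mem_idl] at hv
      obtain ⟨w, hw⟩ := hv
      refine ⟨w, ?_⟩
      show g.app W.1.1 w = _
      rw [M1.comp_app_apply]
      exact (congrArg (pp.app W.1.1) hw).trans hve
  refine ⟨m + n, b ≫ Dual3.idealMulι (I ^ m) q₀.P ≫ qq, ?_⟩
  change R.map _ = R.map _ ≫ φ
  rw [← hb]
  show R.map (b ≫ Dual3.idealMulι (I ^ m) q₀.P ≫ qq) = R.map (b ≫ g) ≫ φ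
  simp only [g, R.map_comp, hRqq, Category.assoc]

end Groth.Agent.IdealMulL
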