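import Groth.Agent.Lib.IdealMul.Inf
import Mathlib.RingTheory.Ideal.Operations

/-!
# Morphisms vanishing outside `V(I)` are killed by a power of `I`
-/

set_option autoImplicit false
set_option linter.style.haveILetI false
set_option backward.isDefEq.respectTransparency false
universe u

open CategoryTheory CategoryTheory.Limits AlgebraicGeometry Opposite

namespace Groth.Agent.IdealMulL

variable {X : Scheme.{u}} (I : X.IdealSheafData) {U : X.Opens}

theorem app_eq_zero_of_restrict {P F : X.Modules} (ψ : P ⟶ F) {U : X.Opens}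
    (hψ : (Scheme.Modules.restrictFunctor U.ι).map ψ = 0) {V : X.Opens} (hV : V ≤ U) (t : Γ(P, V)) :
    ψ.app V t = 0 := by
  have e : U.ι ''ᵁ (U.ι ⁻¹ᵁ V) = V := by
    rw [Scheme.Hom.image_preimage_eq_opensRange_inf, Scheme.Opens.opensRange_ι]
    exact inf_eq_right.2 hV
  have h := congrArg (fun φ => φ.app (U.ι ⁻¹ᵁ V) (M1.mres P e.le t)) hψ
  change ψ.app (U.ι ''ᵁ (U.ι ⁻¹ᵁ V)) (M1.mres P e.le t) = 0 at h
  rw [M1.app_mres] at h
  have h2 := congrArg (M1.mres F e.ge) h
  rw [M1.mres_mres, map_zero] at h2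
  simpa using h2

theorem basicOpen_le_of_mem (hU : (U : Set X) = (I.support : Set X)ᶜ) (W : X.affineOpens)
    {a : Γ(X, W.1)} (ha : a ∈ I.ideal W) : X.basicOpen a ≤ U := by
  intro x hx
  show x ∈ (U : Set X)
  rw [hU]
  intro hxs
  have hxW : x ∈ W.1 := X.basicOpen_le a hx
  rw [SetLike.mem_coe, Scheme.IdealSheafData.mem_support_iff_of_mem hxW, Scheme.mem_zeroLocus_iff] at hxs
  exact hxs a ha hx

/-- Per affine open: a power of `I` kills the image of a morphism vanishing off `V(I)`. -/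
theorem exists_pow_le_annihilator [IsLocallyNoetherian X] {P F : X.Modules} (hP : Coh.IsCoh P)
    [Coh.IsQCoh F] (hU : (U : Set X) = (I.support : Set X)ᶜ) (ψ : P ⟶ F)
    (hψ : (Scheme.Modules.restrictFunctor U.ι).map ψ = 0) (W : X.affineOpens) :
    ∃ k : ℕ, ∀ a ∈ I.ideal W ^ k, ∀ t : Γ(P, W.1), a • ψ.app W.1 t = 0 := by
  haveI : IsNoetherianRing Γ(X, W.1) := IsLocallyNoetherian.component_noetherian W
  haveI : Module.Finite Γ(X, W.1) Γ(P, W.1) := M1.finite_sections hP.1 hP.2 W.2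
  obtain ⟨S, hS⟩ := (Module.finite_def.1 ‹Module.Finite Γ(X, W.1) Γ(P, W.1)›)
  let R : Submodule Γ(X, W.1) Γ(F, W.1) := LinearMap.range (SchDom.appLin ψ W.1)
  have hle : I.ideal W ≤ R.annihilator.radical := by
    intro a ha
    have hk : ∀ t : Γ(P, W.1), ∃ k, a ^ k • ψ.app W.1 t = 0 := fun t =>
      M1.exists_pow_smul_eq_zero_affine F W.2 a _ (by
        rw [← M1.app_mres]
        exact app_eq_zero_of_restrict ψ hψ (basicOpen_le_of_mem I hU W ha) _)
    choose k hk using hk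
    refine ⟨S.sup k, Submodule.mem_annihilator.2 ?_⟩
    rintro _ ⟨t, rfl⟩
    have ht : t ∈ Submodule.span Γ(X, W.1) (S : Set Γ(P, W.1)) := hS ▸ Submodule.mem_top
    induction ht using Submodule.span_induction with
    | mem t ht =>
      obtain ⟨d, hd⟩ := Nat.exists_eq_add_of_le (Finset.le_sup (f := k) ht)
      show a ^ S.sup k • ψ.app W.1 t = 0
      rw [hd, pow_add, mul_comm, mul_smul, hk t, smul_zero]
    | zero => simp
    | add t t' _ _ h h' => rw [map_add, smul_add, h, h', add_zero]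
    | smul c t _ h => rw [map_smul, smul_comm, h, smul_zero]
  obtain ⟨k, hk⟩ := Ideal.exists_pow_le_of_le_radical_of_fg hle (IsNoetherian.noetherian _)
  exact ⟨k, fun a ha t => Submodule.mem_annihilator.1 (hk ha) _ ⟨t, rfl⟩⟩

/-- `I ^ N · G` factors through `I ^ n · G` for `n ≤ N`. -/
theorem exists_inclusion {G : X.Modules} [Coh.IsQCoh G] {n N : ℕ} (h : n ≤ N) :
    ∃ ι : (Dual3.idealMul (I ^ N)).obj G ⟶ (Dual3.idealMul (I ^ n)).obj G,
      ι ≫ Dual3.idealMulι (I ^ n) G = Dual3.idealMulι (I ^ N) G := by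
  haveI : Coh.IsQCoh ((Dual3.idealMul (I ^ N)).obj G) := isQCoh_idl G _ ‹_›
  refine exists_lift_affine _ (idl G (I ^ n)) id (fun x => ?_) fun W m => ?_
  · obtain ⟨W, hW, hxW, -⟩ := exists_isAffineOpen_mem_and_subset (show x ∈ (⊤ : X.Opens) from trivial)
    exact ⟨⟨W, hW⟩, hxW⟩
  · rw [mem_idl]
    have := (mem_idl G (I ^ N) W _).1 ⟨m, rfl⟩
    rw [ideal_pow_apply] at this ⊢
    exact Submodule.smul_mono_left (Ideal.pow_le_pow_right h) this

/-- A morphism vanishing outside `V(I)` is killed by the inclusion of a higher power. -/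
theorem exists_comp_eq_zero [IsNoetherian X] {G F : X.Modules} (hG : Coh.IsCoh G) (hF : Coh.IsQCoh F)
    (hU : (U : Set X) = (I.support : Set X)ᶜ) (n : ℕ)
    (ψ : (Dual3.idealMul (I ^ n)).obj G ⟶ F) (hψ : (Scheme.Modules.restrictFunctor U.ι).map ψ = 0) :
    ∃ (N : ℕ) (ι : (Dual3.idealMul (I ^ N)).obj G ⟶ (Dual3.idealMul (I ^ n)).obj G),
      n ≤ N ∧ ι ≫ Dual3.idealMulι (I ^ n) G = Dual3.idealMulι (I ^ N) G ∧ ι ≫ ψ = 0 := by
  classical
  haveI := hF; haveI := hG.1
  have hP : Coh.IsCoh ((Dual3.idealMul (I ^ n)).obj G) :=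
    M1.isCoh_of_mono (Dual3.idealMulι (I ^ n) G) hG (isQCoh_idl G _ hG.1)
  obtain ⟨T, hT⟩ := exists_finite_affine_cover (X := X)
  choose k hk using fun W : T => exists_pow_le_annihilator I hP hU ψ hψ W.1
  let K := Finset.univ.sup k
  obtain ⟨ι, hι⟩ := exists_inclusion I (G := G) (Nat.le_add_right n K)
  refine ⟨n + K, ι, Nat.le_add_right n K, hι, ?_⟩
  haveI : Coh.IsQCoh ((Dual3.idealMul (I ^ (n + K))).obj G) := isQCoh_idl G _ hG.1
  have hzero : ∀ (W : T) (m : Γ((Dual3.idealMul (I ^ (n + K))).obj G, W.1.1)),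
      (M1.Sub.ker ψ).mem W.1.1 (ι.app W.1.1 m) := by
    intro W m
    rw [M1.Sub.mem_ker]
    have hm := (mem_idl G (I ^ (n + K)) W.1 _).1 ⟨m, rfl⟩
    have hsplit : I.ideal W.1 ^ (n + K) = I.ideal W.1 ^ K * I.ideal W.1 ^ n := by rw [← pow_add, Nat.add_comm]
    rw [ideal_pow_apply, hsplit, Submodule.mul_smul] at hm
    have hn := secSub_idl G (I ^ n) W.1
    rw [ideal_pow_apply] at hn
    rw [← hn, secSub, ← Submodule.map_top, ← Submodule.map_smul''] at hm
    obtain ⟨t, ht, hte⟩ := Submodule.mem_map.1 hm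
    have hinj := M1.app_injective (Dual3.idealMulι (I ^ n) G) W.1.1
    have hmt : ι.app W.1.1 m = t := hinj (by
      rw [← M1.comp_app_apply, hι]
      exact hte.symm)
    rw [hmt]
    refine Submodule.smul_induction_on ht (fun a ha t _ => ?_) (fun a b ha hb => by rw [map_add, ha, hb, add_zero])
    rw [ψ.app_smul]
    exact hk W a (Ideal.pow_le_pow_right (Finset.le_sup (Finset.mem_univ W)) ha) t
  obtain ⟨c, hc⟩ := exists_lift_affine ι (M1.Sub.ker ψ) (fun W : T => W.1) hT hzero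
  rw [← hc, Category.assoc]
  show c ≫ kernel.ι ψ ≫ ψ = 0
  rw [kernel.condition, comp_zero]

end Groth.Agent.IdealMulL
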