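import Groth.Agent.Lib.IdealMul.Basic
import Groth.Agent.Lib.EffCartier.Comap
import Mathlib.CategoryTheory.Subobject.Lattice
import Mathlib.RingTheory.Filtration

/-!
# Intersections of submodules; powers of the ideal
-/

set_option autoImplicit false
set_option linter.style.haveILetI false
set_option backward.isDefEq.respectTransparency false
universe u

open CategoryTheory CategoryTheory.Limits AlgebraicGeometry Opposite

namespace Groth.Agent.IdealMulL

variable {X : Scheme.{u}} {F : X.Modules}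

/-- The intersection of two submodules, as a kernel. -/
noncomputable def interS (a b : M1.Sub F) : M1.Sub F :=
  M1.Sub.ker (biprod.lift (cokernel.π a.i) (cokernel.π b.i))

theorem interS_fac₁ (a b : M1.Sub F) : (interS a b).i ≫ cokernel.π a.i = 0 := by
  have h : (interS a b).i ≫ biprod.lift (cokernel.π a.i) (cokernel.π b.i) = 0 := kernel.condition _
  simpa [Category.assoc] using congrArg (fun g => g ≫ biprod.fst) h

theorem interS_fac₂ (a b : M1.Sub F) : (interS a b).i ≫ cokernel.π b.i = 0 := by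
  have h : (interS a b).i ≫ biprod.lift (cokernel.π a.i) (cokernel.π b.i) = 0 := kernel.condition _
  simpa [Category.assoc] using congrArg (fun g => g ≫ biprod.snd) h

theorem mem_interS (a b : M1.Sub F) (U : X.Opens) (s : Γ(F, U)) :
    (interS a b).mem U s ↔ a.mem U s ∧ b.mem U s := by
  constructor
  · rintro ⟨t, rfl⟩
    exact ⟨(a.mem_iff_cokernel _ _).2 (by rw [← M1.comp_app_apply, interS_fac₁]; rfl),
      (b.mem_iff_cokernel _ _).2 (by rw [← M1.comp_app_apply, interS_fac₂]; rfl)⟩
  · rintro ⟨ha, hb⟩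
    rw [interS, M1.Sub.mem_ker]
    let lf := biprod.lift (cokernel.π a.i) (cokernel.π b.i)
    let f₁ : cokernel a.i ⊞ cokernel b.i ⟶ cokernel a.i := biprod.fst
    let f₂ : cokernel a.i ⊞ cokernel b.i ⟶ cokernel b.i := biprod.snd
    let g₁ : cokernel a.i ⟶ cokernel a.i ⊞ cokernel b.i := biprod.inl
    let g₂ : cokernel b.i ⟶ cokernel a.i ⊞ cokernel b.i := biprod.inr
    have h := congrArg (fun χ => χ.app U (lf.app U s)) (biprod.total (X := cokernel a.i) (Y := cokernel b.i))
    simp only [Scheme.Modules.Hom.add_app, Scheme.Modules.Hom.id_app] at h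
    refine h.symm.trans ?_
    have e1 : f₁.app U (lf.app U s) = 0 := by
      rw [← M1.comp_app_apply, biprod.lift_fst]; exact (a.mem_iff_cokernel _ _).1 ha
    have e2 : f₂.app U (lf.app U s) = 0 := by
      rw [← M1.comp_app_apply, biprod.lift_snd]; exact (b.mem_iff_cokernel _ _).1 hb
    show (f₁ ≫ g₁).app U (lf.app U s) + (f₂ ≫ g₂).app U (lf.app U s) = 0
    rw [M1.comp_app_apply, M1.comp_app_apply, e1, e2, map_zero, map_zero, add_zero]

theorem secSub_interS (a b : M1.Sub F) (U : X.Opens) :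
    secSub (interS a b) U = secSub a U ⊓ secSub b U := by
  ext s
  exact mem_interS a b U s

theorem isQCoh_interS (hF : Coh.IsQCoh F) (a b : M1.Sub F) (ha : Coh.IsQCoh a.P) (hb : Coh.IsQCoh b.P) :
    Coh.IsQCoh (interS a b).P :=
  M1.isQCoh_kernel hF (M1.isQCoh_biprod (M1.isQCoh_cokernel ha hF a.i) (M1.isQCoh_cokernel hb hF b.i)) _

theorem inf_eq_mk (a b : M1.Sub F) :
    Subobject.mk a.i ⊓ Subobject.mk b.i = Subobject.mk (interS a b).i := by
  refine le_antisymm ?_ (le_inf ?_ ?_)
  · refine Subobject.le_mk_of_comm (kernel.lift _ (Subobject.mk a.i ⊓ Subobject.mk b.i).arrow ?_)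
      (kernel.lift_ι _ _ _)
    have h1 := Subobject.ofLE_arrow (inf_le_left (a := Subobject.mk a.i) (b := Subobject.mk b.i))
    have h2 := Subobject.ofLE_arrow (inf_le_right (a := Subobject.mk a.i) (b := Subobject.mk b.i))
    apply biprod.hom_ext
    · rw [Category.assoc, biprod.lift_fst, zero_comp, ← h1, ← Subobject.underlyingIso_hom_comp_eq_mk,
        Category.assoc, Category.assoc, cokernel.condition, comp_zero, comp_zero]
    · rw [Category.assoc, biprod.lift_snd, zero_comp, ← h2, ← Subobject.underlyingIso_hom_comp_eq_mk,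
        Category.assoc, Category.assoc, cokernel.condition, comp_zero, comp_zero]
  · exact Subobject.mk_le_mk_of_comm (Abelian.monoLift a.i _ (interS_fac₁ a b)) (Abelian.monoLift_comp _ _ _)
  · exact Subobject.mk_le_mk_of_comm (Abelian.monoLift b.i _ (interS_fac₂ a b)) (Abelian.monoLift_comp _ _ _)

/-- Two quasi-coherent submodules with the same sections on an affine cover are the same subobject. -/
theorem mk_eq_mk_of_cover (p q : M1.Sub F) (hp : Coh.IsQCoh p.P) (hq : Coh.IsQCoh q.P) {κ : Type*}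
    (W : κ → X.affineOpens) (hW : ∀ x : X, ∃ k, x ∈ (W k).1)
    (h : ∀ k, secSub p (W k).1 = secSub q (W k).1) : Subobject.mk p.i = Subobject.mk q.i := by
  haveI := hp; haveI := hq
  obtain ⟨c, hc⟩ := exists_lift_affine p.i q W hW fun k m => by
    rw [← mem_secSub, ← h k, mem_secSub]; exact ⟨m, rfl⟩
  obtain ⟨d, hd⟩ := exists_lift_affine q.i p W hW fun k m => by
    rw [← mem_secSub, h k, mem_secSub]; exact ⟨m, rfl⟩
  exact le_antisymm (Subobject.mk_le_mk_of_comm c hc) (Subobject.mk_le_mk_of_comm d hd)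

/-- Transport of a submodule along an equality of sources. -/
theorem secSub_comp (p : M1.Sub F) (q : M1.Sub p.P) (U : X.Opens) :
    secSub ⟨q.P, q.i ≫ p.i, inferInstance⟩ U = (secSub q U).map (SchDom.appLin p.i U) := by
  ext s
  rw [Submodule.mem_map]
  constructor
  · rintro ⟨t, rfl⟩
    exact ⟨_, ⟨t, rfl⟩, (M1.comp_app_apply q.i p.i U t).symm⟩
  · rintro ⟨_, ⟨t, rfl⟩, rfl⟩
    exact ⟨t, M1.comp_app_apply q.i p.i U t⟩

/-- `J · P` inside `F`, on an affine open. -/
theorem secSub_idl_comp (J : X.IdealSheafData) (p : M1.Sub F) (hp : Coh.IsQCoh p.P) (U : X.affineOpens) :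
    secSub ⟨(Dual3.idealMul J).obj p.P, Dual3.idealMulι J p.P ≫ p.i, inferInstance⟩ U.1 =
      J.ideal U • secSub p U.1 := by
  haveI := hp
  refine (secSub_comp p (idl p.P J) U.1).trans ?_
  rw [secSub_idl, Submodule.map_smul'', Submodule.map_top]
  rfl

theorem isQCoh_of_mk_iso {P : X.Modules} (i : P ⟶ F) [Mono i] (hP : Coh.IsQCoh P) :
    Coh.IsQCoh (Subobject.underlying.obj (Subobject.mk i)) :=
  M1.isQCoh_of_isIso (Subobject.underlyingIso i).symm hP

theorem secSub_arrow (p : M1.Sub F) (U : X.Opens) :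
    secSub ⟨Subobject.underlying.obj (Subobject.mk p.i), (Subobject.mk p.i).arrow, inferInstance⟩ U =
      secSub p U := by
  ext s
  constructor
  · rintro ⟨t, rfl⟩
    refine ⟨(Subobject.underlyingIso p.i).hom.app U t, ?_⟩
    show p.i.app U _ = (Subobject.mk p.i).arrow.app U t
    rw [← M1.comp_app_apply, Subobject.underlyingIso_hom_comp_eq_mk]
  · rintro ⟨t, rfl⟩
    refine ⟨(Subobject.underlyingIso p.i).inv.app U t, ?_⟩
    show (Subobject.mk p.i).arrow.app U _ = p.i.app U t
    rw [← M1.comp_app_apply, Subobject.underlyingIso_arrow]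

theorem exists_finite_affine_cover [CompactSpace X] :
    ∃ (T : Finset X.affineOpens), ∀ x : X, ∃ k : T, x ∈ k.1.1 := by
  obtain ⟨T, hT⟩ := isCompact_univ.elim_finite_subcover (fun U : X.affineOpens => (U.1 : Set X))
    (fun U => U.1.isOpen) fun x _ => by
      obtain ⟨U, hU, hxU, -⟩ := exists_isAffineOpen_mem_and_subset (show x ∈ (⊤ : X.Opens) from trivial)
      exact Set.mem_iUnion.2 ⟨⟨U, hU⟩, hxU⟩
  exact ⟨T, fun x => by
    obtain ⟨U, hU, hx⟩ := Set.mem_iUnion₂.1 (hT (Set.mem_univ x))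
    exact ⟨⟨U, hU⟩, hx⟩⟩

theorem ideal_pow_apply (I : X.IdealSheafData) (n : ℕ) (U : X.affineOpens) :
    (I ^ n).ideal U = I.ideal U ^ n := rfl

/-- Artin–Rees for quasi-coherent submodules of a coherent module. -/
theorem exists_artinRees [IsNoetherian X] (hF : Coh.IsCoh F) (p : M1.Sub F) (I : X.IdealSheafData)
    {κ : Type*} [Finite κ] (W : κ → X.affineOpens) :
    ∃ c : ℕ, ∀ n, c ≤ n → ∀ k : κ,
      ((I.ideal (W k)) ^ n • ⊤ ⊓ secSub p (W k).1 : Submodule Γ(X, (W k).1) Γ(F, (W k).1)) =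
        (I.ideal (W k)) ^ (n - c) • ((I.ideal (W k)) ^ c • ⊤ ⊓ secSub p (W k).1) := by
  haveI := hF.1
  have h : ∀ k : κ, ∃ c, ∀ n, c ≤ n →
      ((I.ideal (W k)) ^ n • ⊤ ⊓ secSub p (W k).1 : Submodule Γ(X, (W k).1) Γ(F, (W k).1)) =
        (I.ideal (W k)) ^ (n - c) • ((I.ideal (W k)) ^ c • ⊤ ⊓ secSub p (W k).1) := fun k => by
    haveI : IsNoetherianRing Γ(X, (W k).1) := IsLocallyNoetherian.component_noetherian (W k)
    haveI : Module.Finite Γ(X, (W k).1) Γ(F, (W k).1) := M1.finite_sections hF.1 hF.2 (W k).2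
    exact Ideal.exists_pow_inf_eq_pow_smul (I.ideal (W k)) (secSub p (W k).1)
  choose c hc using h
  haveI := Fintype.ofFinite κ
  refine ⟨Finset.univ.sup c, fun n hn k => ?_⟩
  have hk : c k ≤ Finset.univ.sup c := Finset.le_sup (Finset.mem_univ k)
  rw [hc k n (hk.trans hn), hc k _ hk, ← Submodule.mul_smul, ← pow_add,
    show n - Finset.univ.sup c + (Finset.univ.sup c - c k) = n - c k by omega]

end Groth.Agent.IdealMulL
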