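import Groth.Agent.Lib.IdealMul.Extend
import Groth.Agent.Lib.CohFound.DevissageModel
import Groth.Agent.Lib.CohFound.ClosedImmPush
import Groth.Agent.Lib.CohFound.ProperModel
import Mathlib.AlgebraicGeometry.FunctionField

/-!
# Comparing a coherent module with `i_* O_Z^r` near a generic point
-/

set_option autoImplicit false
set_option linter.style.haveILetI false
set_option backward.isDefEq.respectTransparency false
universe u

open CategoryTheory CategoryTheory.Limits AlgebraicGeometry Opposite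

namespace Groth.Agent.IdealMulL

open CohFound

variable {X : Scheme.{u}}

/-- A morphism bijective on the stalks over `U` restricts to an isomorphism. -/
theorem isIso_restrict_map {M N : X.Modules} (φ : M ⟶ N) (U : X.Opens)
    (h : ∀ x ∈ U, Function.Bijective (stL φ x)) :
    IsIso ((Scheme.Modules.restrictFunctor U.ι).map φ) := by
  rw [M1.isIso_iff_stalk]
  intro y
  let e := Scheme.Modules.restrictStalkNatIso U.ι y
  have hb : IsIso ((Scheme.Modules.toPresheaf X ⋙ TopCat.Presheaf.stalkFunctor _ (U.ι y)).map φ) := by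
    rw [ConcreteCategory.isIso_iff_bijective]
    exact h _ y.2
  haveI := (NatIso.isIso_map_iff e φ).2 hb
  exact ConcreteCategory.bijective_of_isIso
    ((Scheme.Modules.restrictFunctor U.ι ⋙ Scheme.Modules.toPresheaf _ ⋙ TopCat.Presheaf.stalkFunctor _ y).map φ)

/-- `I · F` and `F` agree off `V(I)`. -/
theorem bijective_stL_idl {F : X.Modules} [Coh.IsQCoh F] (I : X.IdealSheafData) {x : X}
    (hx : x ∉ (I.support : Set X)) : Function.Bijective (stL (Dual3.idealMulι I F) x) := by
  refine ⟨stL_injective_of_mono _ x, fun a => ?_⟩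
  obtain ⟨W, hW, hxW, -⟩ := exists_isAffineOpen_mem_and_subset (show x ∈ (⊤ : X.Opens) from trivial)
  obtain ⟨r, m₀, hr, hm⟩ := M1.exists_germ_smul_eq F hW hxW a
  rw [SetLike.mem_coe, Scheme.IdealSheafData.mem_support_iff_of_mem (U := ⟨W, hW⟩) hxW,
    Scheme.mem_zeroLocus_iff] at hx
  push Not at hx
  obtain ⟨b, hb, hxb⟩ := hx
  obtain ⟨t, ht⟩ := (mem_idl F I ⟨W, hW⟩ (b • m₀)).2 (Submodule.smul_mem_smul hb Submodule.mem_top)
  have hu : IsUnit (X.presheaf.germ W x hxW b * X.presheaf.germ W x hxW r) :=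
    ((X.mem_basicOpen b x hxW).mp hxb).mul hr
  refine ⟨((hu.unit⁻¹ : (X.presheaf.stalk x)ˣ) : X.presheaf.stalk x) •
    ((Dual3.idealMul I).obj F).presheaf.germ W x hxW t, ?_⟩
  have ht' : (Dual3.idealMulι I F).app W t = b • m₀ := ht
  rw [map_smul, stL_germ, ht', M1.germ_smul, ← hm, ← mul_smul, ← mul_smul, mul_assoc, IsUnit.val_inv_mul, one_smul]

/-- The open where a morphism of coherent modules is bijective on stalks contains every point where it is. -/
theorem exists_open_bijective [IsLocallyNoetherian X] {M N : X.Modules} (φ : M ⟶ N) (hM : Coh.IsCoh M)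
    (hN : Coh.IsCoh N) {x : X} (hx : Function.Bijective (stL φ x)) :
    ∃ U : X.Opens, x ∈ U ∧ ∀ y ∈ U, Function.Bijective (stL φ y) := by
  have hk : Coh.IsCoh (kernel φ) := M1.isCoh_kernel hM hN.1 φ
  have hc : Coh.IsCoh (cokernel φ) := M1.isCoh_cokernel hM.1 hN φ
  refine ⟨⟨(CohB1.support (kernel φ))ᶜ ∩ (CohB1.support (cokernel φ))ᶜ,
    (M1.isClosed_support hk.2).isOpen_compl.inter (M1.isClosed_support hc.2).isOpen_compl⟩,
    ⟨notMem_support_kernel φ x hx.1, (notMem_support_cokernel_iff φ x).2 hx.2⟩, fun y hy => ⟨?_, ?_⟩⟩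
  · refine (injective_iff_map_eq_zero _).2 fun a ha => ?_
    obtain ⟨b, hb⟩ := M1.exact_elem (S := ShortComplex.mk (kernel.ι φ) φ (kernel.condition φ))
      (ShortComplex.exact_kernel φ) y a ha
    rw [← hb, (M1.notMem_support_iff _ y).1 hy.1 b]
    exact map_zero _
  · exact (notMem_support_cokernel_iff φ y).1 hy.2

variable {Z : Scheme.{u}} (i : Z ⟶ X) [IsClosedImmersion i]

/-- A section of a finite sum of copies of `i_* O_Z` whose germ at the generic point vanishes is zero. -/
theorem app_eq_zero_of_germ [IsIntegral Z] {U : X.Opens}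
    (u : Γ((Scheme.Modules.pushforward i).obj (Coh.structureModule Z), U))
    (h : ∀ hU : i (genericPoint Z) ∈ U,
      ((Scheme.Modules.pushforward i).obj (Coh.structureModule Z)).presheaf.germ U _ hU u = 0) : u = 0 := by
  by_cases hU : i (genericPoint Z) ∈ U
  · let v : Γ(Z, i ⁻¹ᵁ U) := u
    have h0 : (Coh.structureModule Z).presheaf.germ (i ⁻¹ᵁ U) (genericPoint Z) hU v = 0 :=
      (pushStalk_germ i _ _ U hU _).symm.trans ((congrArg (pushStalk i _ _) (h hU)).trans
        (map_zero (pushStalk i (Coh.structureModule Z) (genericPoint Z)).hom))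
    have : Nonempty (i ⁻¹ᵁ U) := ⟨⟨_, hU⟩⟩
    have hv : v = (0 : Γ(Z, i ⁻¹ᵁ U)) := by
      refine germ_injective_of_isIntegral Z (genericPoint Z) hU ?_
      rw [map_zero]
      obtain ⟨V, hV, i₁, i₂, he⟩ := (Coh.structureModule Z).presheaf.germ_eq (genericPoint Z)
        (U := i ⁻¹ᵁ U) (V := i ⁻¹ᵁ U) hU hU v (0 : Γ(Coh.structureModule Z, i ⁻¹ᵁ U)) (h0.trans (map_zero _).symm)
      rw [← Z.presheaf.germ_res_apply i₁ (genericPoint Z) hV]
      exact (congrArg (Z.presheaf.germ V _ hV) (he.trans (map_zero _))).trans (map_zero _)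
    exact hv
  · have e : i ⁻¹ᵁ U = ⊥ := le_bot_iff.1 fun z hz =>
      hU (((genericPoint_specializes z).map i.continuous).mem_open U.isOpen hz)
    have : Subsingleton Γ(Z, i ⁻¹ᵁ U) := by rw [e]; infer_instance
    exact @Subsingleton.elim _ this _ _

end Groth.Agent.IdealMulL
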