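import Groth.Prelude.Def_Dual3
import Groth.Agent.Lib.FormalModH7.ClosedSec
import Groth.Agent.Lib.ModLimH13.Hom1
import Groth.Agent.Lib.ModM1.Sub
import Groth.Agent.Lib.ModM1.Push
import Groth.Agent.Lib.SchDom.PullSections
import Groth.Agent.Lib.CohFound.StalkLin

/-!
# The submodule `I · F`

`Dual3.idealMul I F` on affine opens is `I(U) • Γ(F, U)`.
-/

set_option autoImplicit false
set_option linter.style.haveILetI false
set_option backward.isDefEq.respectTransparency false
universe u

open CategoryTheory CategoryTheory.Limits AlgebraicGeometry Opposite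

namespace Groth.Agent.IdealMulL

variable {X : Scheme.{u}} {F : X.Modules}

/-- The sections of a submodule over an open. -/
noncomputable def secSub (p : M1.Sub F) (U : X.Opens) : Submodule Γ(X, U) Γ(F, U) :=
  LinearMap.range (SchDom.appLin p.i U)

lemma mem_secSub (p : M1.Sub F) (U : X.Opens) (s : Γ(F, U)) : s ∈ secSub p U ↔ p.mem U s := Iff.rfl

variable (I : X.IdealSheafData) (F)

/-- `I · F` as a submodule of `F`. -/
noncomputable def idl : M1.Sub F := ⟨(Dual3.idealMul I).obj F, Dual3.idealMulι I F, inferInstance⟩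

theorem isQCoh_idl (hF : Coh.IsQCoh F) : Coh.IsQCoh ((Dual3.idealMul I).obj F) :=
  M1.isQCoh_kernel hF (M1.isQCoh_push I.subschemeι (M1.isQCoh_pullback I.subschemeι hF)) _

theorem mem_idl_iff_unit (U : X.Opens) (s : Γ(F, U)) :
    (idl F I).mem U s ↔
      ((Scheme.Modules.pullbackPushforwardAdjunction I.subschemeι).unit.app F).app U s = 0 :=
  M1.Sub.mem_ker _ U s

/-- Over an affine open, `I · F` has sections `I(U) • Γ(F, U)`. -/
theorem secSub_idl [Coh.IsQCoh F] (U : X.affineOpens) :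
    secSub (idl F I) U.1 = I.ideal U • (⊤ : Submodule Γ(X, U.1) Γ(F, U.1)) := by
  have hsurj : Function.Surjective (I.subschemeι.appLE U.1 (I.subschemeι ⁻¹ᵁ U.1) le_rfl) := by
    rw [← Scheme.Hom.app_eq_appLE]
    exact I.subschemeι.app_surjective U.1 U.2
  have hker : RingHom.ker (I.subschemeι.appLE U.1 (I.subschemeι ⁻¹ᵁ U.1) le_rfl).hom = I.ideal U := by
    rw [← Scheme.Hom.app_eq_appLE, Scheme.IdealSheafData.ker_subschemeι_app]
  ext s
  rw [mem_secSub, mem_idl_iff_unit, ← hker,
    ← FormalModH7.res'_eq_zero_iff I.subschemeι F le_rfl U.2 (U.2.preimage _) hsurj s]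
  simp only [ModLimH13.res', M1.mres_id]

theorem mem_idl [Coh.IsQCoh F] (U : X.affineOpens) (s : Γ(F, U.1)) :
    (idl F I).mem U.1 s ↔ s ∈ I.ideal U • (⊤ : Submodule Γ(X, U.1) Γ(F, U.1)) := by
  rw [← mem_secSub, secSub_idl]

variable {F}

/-- A morphism from a quasi-coherent module factors through a submodule when it does so on the
members of an affine cover. -/
theorem exists_lift_affine {M : X.Modules} [Coh.IsQCoh M] (a : M ⟶ F) (p : M1.Sub F) {κ : Type*}
    (W : κ → X.affineOpens) (hW : ∀ x : X, ∃ k, x ∈ (W k).1)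
    (h : ∀ k (m : Γ(M, (W k).1)), p.mem (W k).1 (a.app (W k).1 m)) : ∃ c : M ⟶ p.P, c ≫ p.i = a := by
  refine M1.Sub.exists_lift a p fun T m => ?_
  rw [p.mem_iff_cokernel]
  refine M1.section_ext _ _ fun x hx => ?_
  obtain ⟨k, hk⟩ := hW x
  obtain ⟨r, m₀, hr, hm⟩ := M1.exists_germ_smul_eq M (W k).2 hk (M.presheaf.germ T x hx m)
  let ψ := a ≫ cokernel.π p.i
  have h0 : ψ.app (W k).1 m₀ = 0 := by
    rw [M1.comp_app_apply]
    exact (p.mem_iff_cokernel _ _).1 (h k m₀)
  have e1 : (M1.stalkAb x).map ψ (M.presheaf.germ T x hx m) =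
      (cokernel p.i).presheaf.germ T x hx (ψ.app T m) := M1.germ_naturality ψ T x hx m
  have e2 : (M1.stalkAb x).map ψ (M.presheaf.germ (W k).1 x hk m₀) = 0 := by
    refine (M1.germ_naturality ψ (W k).1 x hk m₀).trans ?_
    rw [h0, map_zero]
  rw [← M1.comp_app_apply, map_zero, ← e1, ← hr.smul_eq_zero, ← CohFound.stL_eq, ← map_smul, hm, CohFound.stL_eq]
  exact e2

end Groth.Agent.IdealMulL
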