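import Groth.Agent.Lib.IdealMul.Generic
import Groth.Agent.Lib.CohFound.Devissage

/-!
# Dévissage with two implications out of three
-/

set_option autoImplicit false
set_option linter.style.haveILetI false
set_option backward.isDefEq.respectTransparency false
universe u

open CategoryTheory CategoryTheory.Limits AlgebraicGeometry TopologicalSpace Opposite

namespace Groth.Agent.IdealMulL

open CohFound

variable {X : Scheme.{u}}

/-- A morphism of coherent modules which is injective at `η` is injective on a submodule of full stalk at `η`. -/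
theorem exists_mono_sub [IsNoetherian X] {K T : X.Modules} (φ : K ⟶ T) (hK : Coh.IsCoh K) (hT : Coh.IsQCoh T)
    {η : X} (hinj : Function.Injective (stL φ η)) :
    ∃ (K' : X.Modules) (ι : K' ⟶ K), Coh.IsCoh K' ∧ Mono ι ∧ Function.Bijective (stL ι η) ∧ Mono (ι ≫ φ) := by
  classical
  haveI := hT; haveI := hK.1
  have hC : Coh.IsCoh (kernel φ) := M1.isCoh_kernel hK hT φ
  have hηC := notMem_support_kernel φ η hinj
  let A : Closeds X := ⟨CohB1.support (kernel φ), M1.isClosed_support hC.2⟩
  let I : X.IdealSheafData := Scheme.IdealSheafData.vanishingIdeal A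
  let U : X.Opens := A.compl
  have hI : (U : Set X) = (I.support : Set X)ᶜ := by
    rw [Scheme.IdealSheafData.coe_support_vanishingIdeal]
    rfl
  have hker : (Scheme.Modules.restrictFunctor U.ι).map (kernel.ι φ) = 0 := by
    ext V t
    show (kernel.ι φ).app (U.ι ''ᵁ V) t = 0
    refine M1.section_ext _ _ fun x hx => ?_
    rw [map_zero, ← stL_germ, (M1.notMem_support_iff _ x).1 (U.ι_image_le V hx)
      ((kernel φ).presheaf.germ _ x hx t), map_zero]
  obtain ⟨Tc, hTc⟩ := exists_finite_affine_cover (X := X)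
  choose k₂ hk₂ using fun W : Tc => exists_pow_le_annihilator I hC hI (kernel.ι φ) hker W.1
  obtain ⟨c, hc⟩ := exists_artinRees hK (M1.Sub.ker φ) I (fun W : Tc => W.1)
  let m := c + Finset.univ.sup k₂
  have hP₂ : Coh.IsQCoh ((Dual3.idealMul (I ^ m)).obj K) := isQCoh_idl K _ hK.1
  refine ⟨_, Dual3.idealMulι (I ^ m) K, M1.isCoh_of_mono (Dual3.idealMulι (I ^ m) K) hK hP₂, inferInstance,
    bijective_stL_idl _ fun hs => ?_, Preadditive.mono_of_kernel_zero ?_⟩
  · have hη : η ∉ (I.support : Set X) := by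
      rw [Scheme.IdealSheafData.coe_support_vanishingIdeal]
      exact hηC
    generalize hm : m = k at hs
    rcases k with _ | k
    · simp [pow_zero] at hs
    · rw [Scheme.IdealSheafData.support_pow_succ] at hs
      exact hη hs
  · let g := Dual3.idealMulι (I ^ m) K ≫ φ
    haveI := hP₂
    haveI : Coh.IsQCoh (kernel g) := M1.isQCoh_kernel hP₂ hT g
    obtain ⟨c', hc'⟩ := exists_lift_affine (kernel.ι g) (M1.Sub.ker (𝟙 _)) (fun W : Tc => W.1) hTc fun W t => by
      rw [M1.Sub.mem_ker]
      show (kernel.ι g).app W.1.1 t = 0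
      refine M1.app_injective (Dual3.idealMulι (I ^ m) K) W.1.1 ?_
      rw [map_zero]
      let s := (Dual3.idealMulι (I ^ m) K).app W.1.1 ((kernel.ι g).app W.1.1 t)
      have hs : s ∈ I.ideal W.1 ^ m • (⊤ : Submodule Γ(X, W.1.1) _) ⊓ secSub (M1.Sub.ker φ) W.1.1 := by
        refine ⟨?_, (M1.Sub.mem_ker φ _ _).2 ?_⟩
        · rw [← ideal_pow_apply, ← secSub_idl]; exact ⟨_, rfl⟩
        · rw [← M1.comp_app_apply, ← M1.comp_app_apply, kernel.condition]
          rfl
      rw [hc m (Nat.le_add_right _ _) W, show m - c = Finset.univ.sup k₂ from Nat.add_sub_cancel_left _ _] at hs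
      show s = 0
      refine Submodule.smul_induction_on (p := fun x => x = 0) hs (fun a ha b hb => ?_) (fun a b ha hb => by rw [ha, hb, add_zero])
      obtain ⟨b', rfl⟩ := hb.2
      exact hk₂ W a (Ideal.pow_le_pow_right (Finset.le_sup (Finset.mem_univ W)) ha) b'
    show kernel.ι g = 0
    have h0 : (M1.Sub.ker (𝟙 ((Dual3.idealMul (I ^ m)).obj K))).i = 0 := by
      have := kernel.condition (𝟙 ((Dual3.idealMul (I ^ m)).obj K))
      rwa [Category.comp_id] at this
    rw [← hc', h0, comp_zero]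

section Main

variable [hX : IsNoetherian X] {P : X.Modules → Prop}
  (hleft : ∀ S : ShortComplex X.Modules, S.ShortExact → Coh.IsCoh S.X₁ → Coh.IsCoh S.X₂ → Coh.IsCoh S.X₃ →
    P S.X₂ → P S.X₃ → P S.X₁)
  (hmid : ∀ S : ShortComplex X.Modules, S.ShortExact → Coh.IsCoh S.X₁ → Coh.IsCoh S.X₂ → Coh.IsCoh S.X₃ →
    P S.X₁ → P S.X₃ → P S.X₂)
  {Z : Closeds X} {η : X} (hsmall : SmallOK P Z η)

include hX hleft hmid hsmall in
theorem prop_of_bijective {K G : X.Modules} (φ : K ⟶ G) (hK : Coh.IsCoh K) (hG : Coh.IsCoh G)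
    (hKZ : CohB1.support K ⊆ Z) (hGZ : CohB1.support G ⊆ Z) (hinj : Function.Injective (stL φ η))
    (hsurj : Function.Surjective (stL φ η)) (hPG : P G) : P K := by
  let I := Abelian.image φ
  have hcoker : Coh.IsCoh (cokernel φ) := M1.isCoh_cokernel hK.1 hG φ
  have hI : Coh.IsCoh I := M1.isCoh_kernel hG hcoker.1 (cokernel.π φ)
  have hker : Coh.IsCoh (kernel φ) := M1.isCoh_kernel hK hG.1 φ
  let p := Abelian.factorThruImage φ
  have hp : kernel.ι φ ≫ p = 0 := by
    rw [← cancel_mono (Abelian.image.ι φ), Category.assoc, Abelian.image.fac, zero_comp, kernel.condition]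
  let S₁ : ShortComplex X.Modules := ShortComplex.mk (kernel.ι φ) p hp
  have hS₁ : S₁.ShortExact := by
    refine { exact := ?_ }
    let k : ShortComplex X.Modules := ShortComplex.mk (kernel.ι φ) φ (kernel.condition φ)
    let α : S₁ ⟶ k := { τ₁ := 𝟙 _, τ₂ := 𝟙 _, τ₃ := Abelian.image.ι φ
                        comm₁₂ := by simp [S₁, k], comm₂₃ := by simp [S₁, k, p] }
    have : Epi α.τ₁ := inferInstanceAs (Epi (𝟙 _))
    have : IsIso α.τ₂ := inferInstanceAs (IsIso (𝟙 _))
    have : Mono α.τ₃ := inferInstanceAs (Mono (Abelian.image.ι φ))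
    exact (ShortComplex.exact_iff_of_epi_of_isIso_of_mono α).2 (ShortComplex.exact_kernel φ)
  let S₂ : ShortComplex X.Modules :=
    ShortComplex.mk (Abelian.image.ι φ) (cokernel.π φ) (kernel.condition _)
  have hS₂ : S₂.ShortExact := { exact := ShortComplex.exact_kernel (cokernel.π φ) }
  have hPker : P (kernel φ) :=
    hsmall _ hker ((support_subset_of_mono (kernel.ι φ)).trans hKZ) (notMem_support_kernel φ η hinj)
  have hPcoker : P (cokernel φ) :=
    hsmall _ hcoker ((support_subset_of_epi (cokernel.π φ)).trans hGZ) ((notMem_support_cokernel_iff φ η).2 hsurj)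
  exact hmid S₁ hS₁ hker hK hI hPker (hleft S₂ hS₂ hI hG hcoker hPG hPcoker)

include hX hleft hmid hsmall in
theorem iff_of_bijective' {K G : X.Modules} (φ : K ⟶ G) (hK : Coh.IsCoh K) (hG : Coh.IsCoh G)
    (hKZ : CohB1.support K ⊆ Z) (hGZ : CohB1.support G ⊆ Z) (hinj : Function.Injective (stL φ η))
    (hsurj : Function.Surjective (stL φ η)) : P K ↔ P G := by
  refine ⟨fun hPK => ?_, prop_of_bijective hleft hmid hsmall φ hK hG hKZ hGZ hinj hsurj⟩
  obtain ⟨K', ι, hK', hι, hbij, hm⟩ := exists_mono_sub φ hK hG.1 hinj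
  have hK'Z : CohB1.support K' ⊆ (Z : Set X) := (support_subset_of_mono ι).trans hKZ
  have hsurj' : Function.Surjective (stL (ι ≫ φ) η) := fun b => by
    obtain ⟨a, rfl⟩ := hsurj b
    obtain ⟨a', rfl⟩ := hbij.2 a
    exact ⟨a', stL_comp _ _ _ _⟩
  have hc : Coh.IsCoh (cokernel (ι ≫ φ)) := M1.isCoh_cokernel hK'.1 hG _
  exact hmid _ (shortExact_cokernel (ι ≫ φ)) hK' hG hc
    (prop_of_bijective hleft hmid hsmall ι hK' hK hK'Z hKZ hbij.1 hbij.2 hPK)
    (hsmall _ hc ((support_subset_of_epi (cokernel.π (ι ≫ φ))).trans hGZ) ((notMem_support_cokernel_iff _ η).2 hsurj'))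

include hX hleft hmid hsmall in
/-- The simple case: a stalk generated by one nonzero element killed by the maximal ideal. -/
theorem prop_of_cyclic' (m : CohFound.HasModel P η) (hηZ : η ∈ Z) {Q : X.Modules} (hQ : Coh.IsCoh Q)
    (hQZ : CohB1.support Q ⊆ Z) {q : Q.presheaf.stalk η} (hq : q ≠ 0)
    (hqm : ∀ c ∈ IsLocalRing.maximalIdeal (X.presheaf.stalk η), c • q = 0)
    (hgen : ∀ b : Q.presheaf.stalk η, ∃ c : X.presheaf.stalk η, c • q = b) : P Q := by
  classical
  have : HasFiniteBiproducts X.Modules := Abelian.hasFiniteBiproducts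
  let f : Fin m.r → X.Modules := fun _ => Q
  let T : X.Modules := ⨁ f
  let ι (j : Fin m.r) : Q ⟶ T := biproduct.ι f j
  let π (j : Fin m.r) : T ⟶ Q := biproduct.π f j
  have hsum : ∀ b : T.presheaf.stalk η, ∑ j, stL (ι j) η (stL (π j) η b) = b := fun b => by
    have h := congrArg (fun χ => stL χ η b) (biproduct.total (f := f))
    simp only [stL_sum] at h
    refine Eq.trans (Finset.sum_congr rfl fun j _ => ?_) (h.trans (stL_id _ η b))
    exact (stL_comp (biproduct.π f j) (biproduct.ι f j) η b).symm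
  have hιπ : ∀ i j (b : Q.presheaf.stalk η), stL (π j) η (stL (ι i) η b) = if i = j then b else 0 := by
    intro i j b
    rw [← stL_comp]
    split_ifs with h
    · subst h
      rw [biproduct.ι_π_self, stL_id]
    · rw [biproduct.ι_π_ne f h, stL_zero]
  have hT : Coh.IsCoh T := by
    have hfree : Coh.IsCoh (CohB1.tensorMod (FlatMod.freeMod X m.r) Q) :=
      have h := M1.isFP_of_isFinLocFree (M2.isFinLocFree_of_ofRank (M2.isFinLocFreeOfRank_freeMod X m.r))
      ⟨M2.isQCoh_tensor (M1.isFP_isQCoh h) hQ.1, M2.isFT_tensor (M1.isFP_isQCoh h) hQ.1 (M1.isFP_isFT h) hQ.2⟩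
    let e : CohB1.tensorMod (FlatMod.freeMod X m.r) Q ≅ T :=
      M2.freeModTensorIso X m.r Q ≪≫ (biproduct.isoCoproduct f).symm
    exact ⟨M1.isQCoh_of_isIso e hfree.1, M1.isFT_of_isIso e hfree.2⟩
  have hmem : ∀ x, x ∈ CohB1.support T → x ∈ (Z : Set X) := fun x hx => by
    by_contra h
    refine hx ⟨fun a b => ?_⟩
    have h0 : ∀ c : T.presheaf.stalk x, c = 0 := fun c => by
      have hh := congrArg (fun χ => stL χ x c) (biproduct.total (f := f))
      simp only [stL_sum] at hh
      rw [← (hh.trans (stL_id _ x c))]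
      refine Finset.sum_eq_zero fun j _ => ?_
      rw [stL_comp]
      exact (congrArg (stL (biproduct.ι f j) x)
        ((M1.notMem_support_iff Q x).1 (fun hxQ => h (hQZ hxQ)) _)).trans (map_zero _)
    rw [h0 a, h0 b]
  let E : X.Modules := m.G ⊞ T
  have hEfst : ∀ b : m.G.presheaf.stalk η,
      stL (biprod.fst : E ⟶ m.G) η (stL biprod.inl η b) = b := fun b => by
    rw [← stL_comp, biprod.inl_fst, stL_id]
  have hEsnd : ∀ b : T.presheaf.stalk η,
      stL (biprod.snd : E ⟶ T) η (stL biprod.inr η b) = b := fun b => by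
    rw [← stL_comp, biprod.inr_snd, stL_id]
  have hEfst0 : ∀ b : T.presheaf.stalk η,
      stL (biprod.fst : E ⟶ m.G) η (stL biprod.inr η b) = 0 := fun b => by
    rw [← stL_comp, biprod.inr_fst, stL_zero]
  have hEsnd0 : ∀ b : m.G.presheaf.stalk η,
      stL (biprod.snd : E ⟶ T) η (stL biprod.inl η b) = 0 := fun b => by
    rw [← stL_comp, biprod.inl_snd, stL_zero]
  have hEsum : ∀ (x : X) (b : E.presheaf.stalk x),
      stL biprod.inl x (stL (biprod.fst : E ⟶ m.G) x b) +
        stL biprod.inr x (stL (biprod.snd : E ⟶ T) x b) = b := fun x b => by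
    rw [← stL_comp, ← stL_comp, ← stL_add, biprod.total, stL_id]
  have hGZ : CohB1.support m.G ⊆ (Z : Set X) :=
    m.supp.trans (Z.isClosed.closure_subset_iff.2 (Set.singleton_subset_iff.2 hηZ))
  have hEZ : CohB1.support E ⊆ (Z : Set X) := fun x hx => by
    by_contra h
    refine hx ⟨fun a b => ?_⟩
    have h0 : ∀ c : E.presheaf.stalk x, c = 0 := fun c => by
      rw [← hEsum x c, (M1.notMem_support_iff m.G x).1 (fun hG => h (hGZ hG)) (stL biprod.fst x c),
        (M1.notMem_support_iff T x).1 (fun hT' => h (hmem x hT')) (stL biprod.snd x c), map_zero, map_zero,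
        add_zero]
    rw [h0 a, h0 b]
  have hE : Coh.IsCoh E := M1.isCoh_biprod m.isCoh hT
  let w (c : Fin m.r → X.presheaf.stalk η) : E.presheaf.stalk η :=
    stL biprod.inl η (∑ j, c j • m.e j) + stL biprod.inr η (∑ j, stL (ι j) η (c j • q))
  let N : Submodule (X.presheaf.stalk η) (E.presheaf.stalk η) :=
    { carrier := Set.range w
      zero_mem' := ⟨0, by simp [w]⟩
      add_mem' := by
        rintro _ _ ⟨c, rfl⟩ ⟨d, rfl⟩
        exact ⟨c + d, by simp only [w, Pi.add_apply, add_smul, Finset.sum_add_distrib, map_add]; abel⟩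
      smul_mem' := by
        rintro a _ ⟨c, rfl⟩
        exact ⟨a • c, by
          simp only [w, Pi.smul_apply, smul_eq_mul, mul_smul, map_smul, ← Finset.smul_sum, smul_add]⟩ }
  have hfst : ∀ c, stL (biprod.fst : E ⟶ m.G) η (w c) = ∑ j, c j • m.e j := fun c => by
    rw [map_add, hEfst, hEfst0, add_zero]
  have hsnd : ∀ c, stL (biprod.snd : E ⟶ T) η (w c) = ∑ j, stL (ι j) η (c j • q) := fun c => by
    rw [map_add, hEsnd, hEsnd0, zero_add]
  have hw0 : ∀ c, (∀ j, c j ∈ IsLocalRing.maximalIdeal (X.presheaf.stalk η)) → w c = 0 := fun c hc => by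
    simp only [w, m.kills _ (hc _), hqm _ (hc _), map_zero, Finset.sum_const_zero, add_zero]
  have hnil : ∀ g ∈ IsLocalRing.maximalIdeal (X.presheaf.stalk η), ∃ L : ℕ,
      ∀ a : E.presheaf.stalk η, g ^ L • a = 0 := fun g hg => ⟨1, fun a => by
    rw [pow_one, ← hEsum η a, smul_add, ← (stL biprod.inl η).map_smul, ← (stL biprod.inr η).map_smul, m.kills g hg,
      ← hsum (stL biprod.snd η a), Finset.smul_sum]
    have hQm : ∀ b : Q.presheaf.stalk η, g • b = 0 := fun b => by
      obtain ⟨c, rfl⟩ := hgen b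
      rw [smul_comm, hqm g hg, smul_zero]
    simp only [← map_smul, hQm, map_zero, Finset.sum_const_zero, add_zero]⟩
  have hK : Coh.IsCoh (cutAt E η N) := isCoh_cutAt E η N hE hnil
  have hKZ : CohB1.support (cutAt E η N) ⊆ (Z : Set X) := (support_subset_of_mono (cutι E η N)).trans hEZ
  have hrange : ∀ b, ∃ c, stL (cutι E η N) η b = w c := fun b => by
    obtain ⟨c, hc⟩ : stL (cutι E η N) η b ∈ N :=
      (range_stL_cutι E η N).le (LinearMap.mem_range_self _ b)
    exact ⟨c, hc.symm⟩
  have hlift : ∀ c, ∃ b, stL (cutι E η N) η b = w c := fun c => by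
    exact (range_stL_cutι E η N).ge (⟨c, rfl⟩ : w c ∈ N)
  have hPG : P (cutAt E η N) := by
    refine (iff_of_bijective' hleft hmid hsmall (cutι E η N ≫ biprod.fst) hK m.isCoh hKZ hGZ ?_ fun b => ?_).2 m.prop
    · refine (injective_iff_map_eq_zero _).2 fun b hb => ?_
      obtain ⟨c, hc⟩ := hrange b
      rw [stL_comp, hc, hfst] at hb
      exact stL_injective_of_mono (cutι E η N) η (by rw [hc, map_zero, hw0 c (m.indep c hb)])
    · obtain ⟨c, rfl⟩ := m.span b
      obtain ⟨a, ha⟩ := hlift c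
      exact ⟨a, by rw [stL_comp, ha, hfst]⟩
  have hPT : P T := by
    refine (iff_of_bijective' hleft hmid hsmall (cutι E η N ≫ biprod.snd) hK hT hKZ hmem ?_ fun b => ?_).1 hPG
    · refine (injective_iff_map_eq_zero _).2 fun b hb => ?_
      obtain ⟨c, hc⟩ := hrange b
      rw [stL_comp, hc, hsnd] at hb
      refine stL_injective_of_mono (cutι E η N) η ?_
      rw [hc, map_zero, hw0 c fun j => ?_]
      have hj := congrArg (stL (π j) η) hb
      simp only [map_sum, map_zero, hιπ, Finset.sum_ite_eq', Finset.mem_univ, if_true] at hj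
      by_contra hu
      exact hq ((IsLocalRing.notMem_maximalIdeal.1 hu).smul_eq_zero.1 hj)
    · choose c hc using fun j => hgen (stL (π j) η b)
      obtain ⟨a, ha⟩ := hlift c
      refine ⟨a, ?_⟩
      rw [stL_comp, ha, hsnd]
      simp only [hc]
      exact hsum b
  refine m.of_sigma Q hQ ?_
  have hS : Coh.IsCoh (∐ f) :=
    ⟨M1.isQCoh_of_isIso (biproduct.isoCoproduct f) hT.1, M1.isFT_of_isIso (biproduct.isoCoproduct f) hT.2⟩
  refine (iff_of_bijective' hleft hmid hsmall (biproduct.isoCoproduct f).hom hT hS hmem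
    ((support_subset_of_epi (biproduct.isoCoproduct f).hom).trans hmem)
    (stL_injective_of_mono _ η) (stL_surjective_of_epi _ η)).1 hPT

end Main

end Groth.Agent.IdealMulL
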