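import Groth.Agent.Lib.IdealMul.Generic
import Groth.Agent.Lib.CohFound.DevissageExt
import Groth.Agent.Lib.CohFound.Devissage

/-!
# Dévissage steps for properties closed under extensions
-/

set_option autoImplicit false
set_option linter.style.haveILetI false
set_option backward.isDefEq.respectTransparency false
universe u

open CategoryTheory CategoryTheory.Limits AlgebraicGeometry TopologicalSpace Opposite

namespace Groth.Agent.IdealMulL

open CohFound

variable {X : Scheme.{u}}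

/-- The cyclic step for a property closed under extensions. -/
theorem prop_of_cyclic_ext [IsNoetherian X] (P : X.Modules → Prop)
    (hP : ∀ M N : X.Modules, Nonempty (M ≅ N) → P M → P N)
    (h₁ : ∀ S : ShortComplex X.Modules, S.ShortExact → Coh.IsCoh S.X₁ → Coh.IsCoh S.X₂ →
      Coh.IsCoh S.X₃ → P S.X₁ → P S.X₃ → P S.X₂)
    (W : Closeds X) (η : X) (hη : η ∈ W) (hsmall : SmallOK P W η)
    (h₂ : ∀ (Z : Scheme.{u}) (i : Z ⟶ X), IsClosedImmersion i → IsIntegral Z → Set.range i = closure {η} →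
      ∀ (I : Z.Modules) (ι : I ⟶ Coh.structureModule Z), Mono ι → Coh.IsQCoh I → P ((Coh.push i).obj I))
    (Q : X.Modules) (hQ : Coh.IsCoh Q) (hQW : CohB1.support Q ⊆ W) (q : Q.presheaf.stalk η) (hq : q ≠ 0)
    (hqm : ∀ c ∈ IsLocalRing.maximalIdeal (X.presheaf.stalk η), c • q = 0)
    (hgen : ∀ b : Q.presheaf.stalk η, ∃ c : X.presheaf.stalk η, c • q = b) : P Q := by
  classical
  obtain ⟨Z, i, hi, hZ, hr, hξ, -⟩ := exists_integral_point η
  subst hξ
  have hZn : IsLocallyNoetherian Z := LocallyOfFiniteType.isLocallyNoetherian i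
  let G := (Scheme.Modules.pushforward i).obj (Coh.structureModule Z)
  have hG : Coh.IsCoh G := isCoh_push_closedImm i (M1.isCoh_structureModule Z)
  have hGW : CohB1.support G ⊆ (W : Set X) := (support_push_subset i _).trans
    (hr.le.trans (W.isClosed.closure_subset_iff.2 (Set.singleton_subset_iff.2 hη)))
  obtain ⟨g, hg, hggen, hgkill⟩ := exists_cyclic_push_structureModule i
  let η := i (genericPoint Z)
  have hQm : ∀ c ∈ IsLocalRing.maximalIdeal (X.presheaf.stalk η), ∀ b : Q.presheaf.stalk η, c • b = 0 :=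
    fun c hc b => by obtain ⟨d, rfl⟩ := hgen b; rw [smul_comm, hqm c hc, smul_zero]
  let E := G ⊞ Q
  have hE : Coh.IsCoh E := M1.isCoh_biprod hG hQ
  have hfst : ∀ b, stL (biprod.fst : E ⟶ G) η (stL biprod.inl η b) = b := fun b => by
    rw [← stL_comp, biprod.inl_fst, stL_id]
  have hsnd : ∀ b, stL (biprod.snd : E ⟶ Q) η (stL biprod.inr η b) = b := fun b => by
    rw [← stL_comp, biprod.inr_snd, stL_id]
  have hfst0 : ∀ b, stL (biprod.fst : E ⟶ G) η (stL biprod.inr η b) = 0 := fun b => by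
    rw [← stL_comp, biprod.inr_fst, stL_zero]
  have hsnd0 : ∀ b, stL (biprod.snd : E ⟶ Q) η (stL biprod.inl η b) = 0 := fun b => by
    rw [← stL_comp, biprod.inl_snd, stL_zero]
  have hsum : ∀ (x : X) (b : E.presheaf.stalk x),
      stL biprod.inl x (stL (biprod.fst : E ⟶ G) x b) +
        stL biprod.inr x (stL (biprod.snd : E ⟶ Q) x b) = b := fun x b => by
    rw [← stL_comp, ← stL_comp, ← stL_add, biprod.total, stL_id]
  have hEW : CohB1.support E ⊆ (W : Set X) := fun x hx => by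
    by_contra h
    refine (M1.notMem_support_iff E x).2 (fun c => ?_) hx
    rw [← hsum x c, (M1.notMem_support_iff G x).1 (fun h' => h (hGW h')) (stL biprod.fst x c),
      (M1.notMem_support_iff Q x).1 (fun h' => h (hQW h')) (stL biprod.snd x c), map_zero, map_zero,
      add_zero]
  let w : E.presheaf.stalk η := stL biprod.inl η g + stL biprod.inr η q
  let N : Submodule (X.presheaf.stalk η) (E.presheaf.stalk η) := Submodule.span _ {w}
  have hnil : ∀ c ∈ IsLocalRing.maximalIdeal (X.presheaf.stalk η), ∃ L : ℕ,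
      ∀ a : E.presheaf.stalk η, c ^ L • a = 0 := fun c hc => ⟨1, fun a => by
    rw [pow_one, ← hsum η a, smul_add, ← (stL biprod.inl η).map_smul, ← (stL biprod.inr η).map_smul,
      hgkill c hc, hQm c hc, map_zero, map_zero, add_zero]⟩
  let K := cutAt E η N
  let κ := cutι E η N
  have hK : Coh.IsCoh K := isCoh_cutAt E η N hE hnil
  have hKW : CohB1.support K ⊆ (W : Set X) := (support_subset_of_mono κ).trans hEW
  have hrange : ∀ b, ∃ c : X.presheaf.stalk η, stL κ η b = c • w := fun b => by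
    obtain ⟨c, hc⟩ := Submodule.mem_span_singleton.1
      ((range_stL_cutι E η N).le (LinearMap.mem_range_self _ b))
    exact ⟨c, hc.symm⟩
  have hlift : ∀ c : X.presheaf.stalk η, ∃ b, stL κ η b = c • w := fun c =>
    (range_stL_cutι E η N).ge (Submodule.smul_mem _ c (Submodule.mem_span_singleton_self w))
  let a : K ⟶ G := κ ≫ biprod.fst
  let b : K ⟶ Q := κ ≫ biprod.snd
  have ha : ∀ (e : K.presheaf.stalk η) (c : X.presheaf.stalk η), stL κ η e = c • w → stL a η e = c • g :=
    fun e c hc => by rw [stL_comp, hc, map_smul, map_add, hfst, hfst0, add_zero]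
  have hb : ∀ (e : K.presheaf.stalk η) (c : X.presheaf.stalk η), stL κ η e = c • w → stL b η e = c • q :=
    fun e c hc => by rw [stL_comp, hc, map_smul, map_add, hsnd0, hsnd, zero_add]
  have hunit : ∀ c : X.presheaf.stalk η, c • q = 0 → c ∈ IsLocalRing.maximalIdeal (X.presheaf.stalk η) :=
    fun c hc => by
      by_contra hu
      exact hq ((IsLocalRing.notMem_maximalIdeal.1 hu).smul_eq_zero.1 hc)
  have hbsurj : Function.Surjective (stL b η) := fun y => by
    obtain ⟨c, rfl⟩ := hgen y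
    obtain ⟨e, he⟩ := hlift c
    exact ⟨e, hb e c he⟩
  have hainj : Function.Injective (stL a η) := (injective_iff_map_eq_zero _).2 fun e he => by
    obtain ⟨c, hc⟩ := hrange e
    have hcm : c ∈ IsLocalRing.maximalIdeal (X.presheaf.stalk η) := by
      by_contra hu
      exact hg ((IsLocalRing.notMem_maximalIdeal.1 hu).smul_eq_zero.1 ((ha e c hc).symm.trans he))
    refine stL_injective_of_mono κ η (hc.trans ?_)
    rw [map_zero, smul_add, ← map_smul, ← map_smul, hgkill c hcm, hqm c hcm, map_zero, map_zero,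
      add_zero]
  have : Mono b := by
    refine (M1.mono_iff_app b).2 fun U => (injective_iff_map_eq_zero (b.app U).hom).2 fun s hs => ?_
    let t : Γ(E, U) := κ.app U s
    have hs2 : (biprod.snd : E ⟶ Q).app U t = 0 := (M1.comp_app_apply κ biprod.snd U s).symm.trans hs
    have hs1 : (biprod.fst : E ⟶ G).app U t = 0 := by
      by_cases hU : η ∈ U
      · have hzero : G.presheaf.germ U η hU ((biprod.fst : E ⟶ G).app U t) = 0 := by
          obtain ⟨c, hc⟩ := hrange (K.presheaf.germ U η hU s)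
          have h2 : c • q = 0 := by
            rw [← hb _ c hc, stL_germ]
            exact (congrArg (Q.presheaf.germ U η hU) hs).trans (map_zero _)
          have e1 : G.presheaf.germ U η hU ((biprod.fst : E ⟶ G).app U t) = stL a η (K.presheaf.germ U η hU s) := by
            rw [stL_germ]; exact congrArg _ (M1.comp_app_apply κ biprod.fst U s).symm
          rw [e1, ha _ c hc, hgkill c (hunit c h2)]
        let u : Γ(Z, i ⁻¹ᵁ U) := (biprod.fst : E ⟶ G).app U t
        have h0 : (Coh.structureModule Z).presheaf.germ (i ⁻¹ᵁ U) (genericPoint Z) hU u = 0 :=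
          (pushStalk_germ i _ _ U hU _).symm.trans ((congrArg (pushStalk i _ _) hzero).trans
            (map_zero (pushStalk i (Coh.structureModule Z) (genericPoint Z)).hom))
        have : Nonempty (i ⁻¹ᵁ U) := ⟨⟨_, hU⟩⟩
        have hu : u = (0 : Γ(Z, i ⁻¹ᵁ U)) := by
          refine germ_injective_of_isIntegral Z (genericPoint Z) hU ?_
          rw [map_zero]
          obtain ⟨V, hV, i₁, i₂, he⟩ := (Coh.structureModule Z).presheaf.germ_eq (genericPoint Z)
            (U := i ⁻¹ᵁ U) (V := i ⁻¹ᵁ U) hU hU u (0 : Γ(Coh.structureModule Z, i ⁻¹ᵁ U)) (h0.trans (map_zero _).symm)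
          rw [← Z.presheaf.germ_res_apply i₁ (genericPoint Z) hV]
          exact (congrArg (Z.presheaf.germ V _ hV) (he.trans (map_zero _))).trans (map_zero _)
        exact hu
      · have e : i ⁻¹ᵁ U = ⊥ := le_bot_iff.1 fun z hz =>
          hU (((genericPoint_specializes z).map i.continuous).mem_open U.isOpen hz)
        have : Subsingleton Γ(Z, i ⁻¹ᵁ U) := by rw [e]; infer_instance
        exact @Subsingleton.elim _ this _ _
    refine M1.app_injective κ U ?_
    rw [map_zero]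
    refine (congrArg (fun φ : E ⟶ E => φ.app U t) biprod.total).symm.trans ?_
    change (biprod.inl : G ⟶ E).app U ((biprod.fst : E ⟶ G).app U t) +
      (biprod.inr : Q ⟶ E).app U ((biprod.snd : E ⟶ Q).app U t) = 0
    rw [hs1, hs2, map_zero, map_zero, add_zero]
  have hPQ : P K → P Q := fun h => by
    refine h₁ _ (shortExact_cokernel b) hK hQ (M1.isCoh_cokernel hK.1 hQ b) h ?_
    exact hsmall _ (M1.isCoh_cokernel hK.1 hQ b) ((support_subset_of_epi (cokernel.π b)).trans hQW)
      ((notMem_support_cokernel_iff b η).2 hbsurj)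
  refine hPQ ?_
  let J := Abelian.image a
  have hC : Coh.IsCoh (cokernel a) := M1.isCoh_cokernel hK.1 hG a
  have hJ : Coh.IsCoh J := M1.isCoh_kernel hG hC.1 (cokernel.π a)
  have hker : Coh.IsCoh (kernel a) := M1.isCoh_kernel hK hG.1 a
  let S : ShortComplex X.Modules := ShortComplex.mk (kernel.ι a) (Abelian.factorThruImage a)
    (by rw [← cancel_mono (Abelian.image.ι a), Category.assoc, Abelian.image.fac, zero_comp, kernel.condition])
  have hS : S.ShortExact :=
    { exact := ShortComplex.exact_of_f_is_kernel _ (KernelFork.IsLimit.ofι _ _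
        (fun φ hφ => kernel.lift a φ (by rw [← Abelian.image.fac a, ← Category.assoc, hφ, zero_comp]))
        (fun φ hφ => kernel.lift_ι _ _ _) fun φ hφ m hm => by
          rw [← cancel_mono (kernel.ι a), kernel.lift_ι]; exact hm) }
  refine h₁ S hS hker hK hJ (hsmall _ hker ((support_subset_of_mono (kernel.ι a)).trans hKW)
    (notMem_support_kernel a η hainj)) ?_
  obtain ⟨I, ι, hι, hI, ⟨e⟩⟩ := exists_ideal_push_iso i hC.1 (cokernel.π a)
  exact hP _ _ ⟨e⟩ (h₂ Z i hi hZ hr I ι hι hI)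


/-- Coherent modules with isomorphic vector space stalks at a point are isomorphic near it. -/
theorem exists_restrict_iso [IsLocallyNoetherian X] {ξ : X} {G F : X.Modules} (hG : Coh.IsCoh G) (hF : Coh.IsCoh F) {r : ℕ}
    (e' : Fin r → G.presheaf.stalk ξ) (e : Fin r → F.presheaf.stalk ξ)
    (hGm : ∀ c ∈ IsLocalRing.maximalIdeal (X.presheaf.stalk ξ), ∀ a : G.presheaf.stalk ξ, c • a = 0)
    (hFm : ∀ c ∈ IsLocalRing.maximalIdeal (X.presheaf.stalk ξ), ∀ a : F.presheaf.stalk ξ, c • a = 0)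
    (hspan' : ∀ a : G.presheaf.stalk ξ, ∃ c : Fin r → X.presheaf.stalk ξ, ∑ j, c j • e' j = a)
    (hspan : ∀ a : F.presheaf.stalk ξ, ∃ c : Fin r → X.presheaf.stalk ξ, ∑ j, c j • e j = a)
    (hindep' : ∀ c : Fin r → X.presheaf.stalk ξ, ∑ j, c j • e' j = 0 →
      ∀ j, c j ∈ IsLocalRing.maximalIdeal (X.presheaf.stalk ξ))
    (hindep : ∀ c : Fin r → X.presheaf.stalk ξ, ∑ j, c j • e j = 0 →
      ∀ j, c j ∈ IsLocalRing.maximalIdeal (X.presheaf.stalk ξ)) :
    ∃ U : X.Opens, ξ ∈ U ∧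
      Nonempty ((Scheme.Modules.restrictFunctor U.ι).obj G ≅ (Scheme.Modules.restrictFunctor U.ι).obj F) := by
  classical
  haveI : HasFiniteBiproducts X.Modules := Abelian.hasFiniteBiproducts
  let E := G ⊞ F
  let inG : G ⟶ E := biprod.inl
  let inF : F ⟶ E := biprod.inr
  let prG : E ⟶ G := biprod.fst
  let prF : E ⟶ F := biprod.snd
  have hE : Coh.IsCoh E := M1.isCoh_biprod hG hF
  have hGG : ∀ b, stL prG ξ (stL inG ξ b) = b := fun b => by
    rw [← stL_comp, show inG ≫ prG = 𝟙 G from biprod.inl_fst, stL_id]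
  have hFF : ∀ b, stL prF ξ (stL inF ξ b) = b := fun b => by
    rw [← stL_comp, show inF ≫ prF = 𝟙 F from biprod.inr_snd, stL_id]
  have hFG : ∀ b, stL prG ξ (stL inF ξ b) = 0 := fun b => by
    rw [← stL_comp, show inF ≫ prG = 0 from biprod.inr_fst, stL_zero]
  have hGF : ∀ b, stL prF ξ (stL inG ξ b) = 0 := fun b => by
    rw [← stL_comp, show inG ≫ prF = 0 from biprod.inl_snd, stL_zero]
  let w (c : Fin r → X.presheaf.stalk ξ) : E.presheaf.stalk ξ :=
    stL inG ξ (∑ j, c j • e' j) + stL inF ξ (∑ j, c j • e j)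
  let N : Submodule (X.presheaf.stalk ξ) (E.presheaf.stalk ξ) :=
    { carrier := Set.range w
      zero_mem' := ⟨0, by simp [w]⟩
      add_mem' := by
        rintro _ _ ⟨c, rfl⟩ ⟨d, rfl⟩
        exact ⟨c + d, by simp only [w, Pi.add_apply, add_smul, Finset.sum_add_distrib, map_add]; abel⟩
      smul_mem' := by
        rintro a _ ⟨c, rfl⟩
        exact ⟨a • c, by
          simp only [w, Pi.smul_apply, smul_eq_mul, mul_smul, map_smul, ← Finset.smul_sum, smul_add]⟩ }
  have hw0 : ∀ c, (∀ j, c j ∈ IsLocalRing.maximalIdeal (X.presheaf.stalk ξ)) → w c = 0 := fun c hc => by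
    simp only [w, hGm _ (hc _), hFm _ (hc _), map_zero, Finset.sum_const_zero, add_zero]
  have hsumE : ∀ b : E.presheaf.stalk ξ,
      stL inG ξ (stL prG ξ b) + stL inF ξ (stL prF ξ b) = b := fun b => by
    rw [← stL_comp, ← stL_comp, ← stL_add,
      show prG ≫ inG + prF ≫ inF = 𝟙 E from biprod.total, stL_id]
  have hnil : ∀ c ∈ IsLocalRing.maximalIdeal (X.presheaf.stalk ξ), ∃ L : ℕ,
      ∀ a : E.presheaf.stalk ξ, c ^ L • a = 0 := fun c hc => ⟨1, fun a => by
    rw [pow_one, ← hsumE a, smul_add, ← (stL inG ξ).map_smul, ← (stL inF ξ).map_smul,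
      hGm c hc, hFm c hc, map_zero, map_zero, add_zero]⟩
  let K := cutAt E ξ N
  let κ := cutι E ξ N
  have hK : Coh.IsCoh K := isCoh_cutAt E ξ N hE hnil
  have hrange : ∀ b, ∃ c, stL κ ξ b = w c := fun b => by
    obtain ⟨c, hc⟩ : stL κ ξ b ∈ N :=
      (range_stL_cutι E ξ N).le (LinearMap.mem_range_self _ b)
    exact ⟨c, hc.symm⟩
  have hlift : ∀ c, ∃ b, stL κ ξ b = w c := fun c =>
    (range_stL_cutι E ξ N).ge (⟨c, rfl⟩ : w c ∈ N)
  let p₁ : K ⟶ G := κ ≫ prG
  let p₂ : K ⟶ F := κ ≫ prF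
  have hp₁ : ∀ b c, stL κ ξ b = w c → stL p₁ ξ b = ∑ j, c j • e' j := fun b c h => by
    rw [stL_comp, h, map_add, hGG, hFG, add_zero]
  have hp₂ : ∀ b c, stL κ ξ b = w c → stL p₂ ξ b = ∑ j, c j • e j := fun b c h => by
    rw [stL_comp, h, map_add, hGF, hFF, zero_add]
  have hb₁ : Function.Bijective (stL p₁ ξ) := by
    refine ⟨(injective_iff_map_eq_zero _).2 fun b hb => ?_, fun a => ?_⟩
    · obtain ⟨c, hc⟩ := hrange b
      refine stL_injective_of_mono κ ξ ?_
      rw [hc, map_zero, hw0 c (hindep' c ((hp₁ b c hc).symm.trans hb))]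
    · obtain ⟨c, rfl⟩ := hspan' a
      obtain ⟨b, hb⟩ := hlift c
      exact ⟨b, hp₁ b c hb⟩
  have hb₂ : Function.Bijective (stL p₂ ξ) := by
    refine ⟨(injective_iff_map_eq_zero _).2 fun b hb => ?_, fun a => ?_⟩
    · obtain ⟨c, hc⟩ := hrange b
      refine stL_injective_of_mono κ ξ ?_
      rw [hc, map_zero, hw0 c (hindep c ((hp₂ b c hc).symm.trans hb))]
    · obtain ⟨c, rfl⟩ := hspan a
      obtain ⟨b, hb⟩ := hlift c
      exact ⟨b, hp₂ b c hb⟩
  obtain ⟨U₁, hξ₁, hU₁⟩ := exists_open_bijective p₁ hK hG hb₁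
  obtain ⟨U₂, hξ₂, hU₂⟩ := exists_open_bijective p₂ hK hF hb₂
  let U : X.Opens := U₁ ⊓ U₂
  let R := Scheme.Modules.restrictFunctor U.ι
  haveI : IsIso (R.map p₁) := isIso_restrict_map p₁ U fun x hx => hU₁ x hx.1
  haveI : IsIso (R.map p₂) := isIso_restrict_map p₂ U fun x hx => hU₂ x hx.2
  exact ⟨U, ⟨hξ₁, hξ₂⟩, ⟨(asIso (R.map p₁)).symm ≪≫ asIso (R.map p₂)⟩⟩

/-- The case of the generic point, from submodules of the powers `J ^ n · G` with property `P`. -/
theorem prop_sigma_of_generic [IsNoetherian X] (P : X.Modules → Prop)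
    (h₁ : ∀ S : ShortComplex X.Modules, S.ShortExact → Coh.IsCoh S.X₁ → Coh.IsCoh S.X₂ →
      Coh.IsCoh S.X₃ → P S.X₁ → P S.X₃ → P S.X₂)
    {Z : Closeds X} {ξ : X} (hsmall : SmallOK P Z ξ) {G T : X.Modules} (hG : Coh.IsCoh G) (hT : Coh.IsCoh T)
    (hTZ : CohB1.support T ⊆ Z) (U : X.Opens) (hξ : ξ ∈ U)
    (φ : (Scheme.Modules.restrictFunctor U.ι).obj G ≅ (Scheme.Modules.restrictFunctor U.ι).obj T)
    (h₄ : ∀ J : X.IdealSheafData, ξ ∉ (J.support : Set X) →
      ∃ (G' : X.Modules) (ι' : G' ⟶ (Dual3.idealMul J).obj G), Mono ι' ∧ Coh.IsQCoh G' ∧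
        IsIso ((TopCat.Presheaf.stalkFunctor _ ξ).map (ι' ≫ Dual3.idealMulι J G).mapPresheaf) ∧ P G') : P T := by
  classical
  haveI := hG.1; haveI := hT.1
  let R := Scheme.Modules.restrictFunctor U.ι
  let J : X.IdealSheafData := Scheme.IdealSheafData.vanishingIdeal ⟨(U : Set X)ᶜ, U.isOpen.isClosed_compl⟩
  have hJ : (U : Set X) = (J.support : Set X)ᶜ := by
    rw [Scheme.IdealSheafData.coe_support_vanishingIdeal]
    exact (compl_compl _).symm
  have hsupp : ∀ m : ℕ, ∀ x ∈ U, x ∉ ((J ^ m).support : Set X) := fun m x hx hs => by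
    have hx' : x ∉ (J.support : Set X) := by
      have : x ∈ (U : Set X) := hx
      rwa [hJ] at this
    rcases m with _ | m
    · simp [pow_zero] at hs
    · rw [Scheme.IdealSheafData.support_pow_succ] at hs
      exact hx' hs
  obtain ⟨n, ψ, hψ⟩ := exists_extend hT.1 hG J hJ φ.hom
  let ιn := Dual3.idealMulι (J ^ n) G
  have hP : Coh.IsCoh ((Dual3.idealMul (J ^ n)).obj G) := M1.isCoh_of_mono ιn hG (isQCoh_idl G _ hG.1)
  haveI := hP.1
  haveI : IsIso (R.map ιn) := isIso_restrict_map _ U fun x hx => bijective_stL_idl _ (hsupp n x hx)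
  haveI : IsIso (R.map ψ) := by rw [hψ]; infer_instance
  have hC : Coh.IsCoh (kernel ψ) := M1.isCoh_kernel hP hT.1 ψ
  let p : M1.Sub G := ⟨kernel ψ, kernel.ι ψ ≫ ιn, inferInstance⟩
  have hker : R.map p.i = 0 := by
    show R.map (kernel.ι ψ ≫ ιn) = 0
    rw [R.map_comp, show R.map (kernel.ι ψ) = 0 by
      rw [← cancel_mono (R.map ψ), ← R.map_comp, kernel.condition, R.map_zero, zero_comp], zero_comp]
  obtain ⟨Tc, hTc⟩ := exists_finite_affine_cover (X := X)
  choose k₂ hk₂ using fun W : Tc => exists_pow_le_annihilator J hC hJ p.i hker W.1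
  obtain ⟨c, hc⟩ := exists_artinRees hG p J (fun W : Tc => W.1)
  let N := c + Finset.univ.sup k₂ + n
  obtain ⟨ι, hι⟩ := exists_inclusion J (G := G) (show n ≤ N from Nat.le_add_left _ _)
  haveI hPN : Coh.IsQCoh ((Dual3.idealMul (J ^ N)).obj G) := isQCoh_idl G _ hG.1
  haveI : Mono (ι ≫ ψ) := by
    refine Preadditive.mono_of_kernel_zero ?_
    haveI : Coh.IsQCoh (kernel (ι ≫ ψ)) := M1.isQCoh_kernel hPN hT.1 _
    obtain ⟨c', hc'⟩ := exists_lift_affine (kernel.ι (ι ≫ ψ)) (M1.Sub.ker (𝟙 _)) (fun W : Tc => W.1) hTc fun W t => by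
      rw [M1.Sub.mem_ker]
      show (kernel.ι (ι ≫ ψ)).app W.1.1 t = 0
      refine M1.app_injective (Dual3.idealMulι (J ^ N) G) W.1.1 ?_
      rw [map_zero]
      let s := (Dual3.idealMulι (J ^ N) G).app W.1.1 ((kernel.ι (ι ≫ ψ)).app W.1.1 t)
      have hs : s ∈ J.ideal W.1 ^ N • (⊤ : Submodule Γ(X, W.1.1) _) ⊓ secSub p W.1.1 := by
        refine ⟨?_, ?_⟩
        · rw [← ideal_pow_apply, ← secSub_idl]; exact ⟨_, rfl⟩
        · obtain ⟨b, hb⟩ := (M1.Sub.mem_ker ψ W.1.1 (ι.app W.1.1 ((kernel.ι (ι ≫ ψ)).app W.1.1 t))).2 (by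
            rw [← M1.comp_app_apply, ← M1.comp_app_apply, kernel.condition]
            rfl)
          refine ⟨b, ?_⟩
          show (kernel.ι ψ ≫ ιn).app W.1.1 b = s
          rw [M1.comp_app_apply]
          refine (congrArg (ιn.app W.1.1) hb).trans ?_
          rw [← M1.comp_app_apply, hι]
      rw [hc N ((Nat.le_add_right _ _).trans (Nat.le_add_right _ _)) W] at hs
      have hle : k₂ W ≤ N - c := by
        have := Finset.le_sup (f := k₂) (Finset.mem_univ W)
        show k₂ W ≤ c + Finset.univ.sup k₂ + n - c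
        omega
      show s = 0
      refine Submodule.smul_induction_on (p := fun x => x = 0) hs (fun a ha b hb => ?_) (fun a b ha hb => by rw [ha, hb, add_zero])
      obtain ⟨b', rfl⟩ := hb.2
      exact hk₂ W a (Ideal.pow_le_pow_right hle ha) b'
    have h0 : (M1.Sub.ker (𝟙 ((Dual3.idealMul (J ^ N)).obj G))).i = 0 := by
      have := kernel.condition (𝟙 ((Dual3.idealMul (J ^ N)).obj G))
      rwa [Category.comp_id] at this
    rw [← hc', h0, comp_zero]
  obtain ⟨G', ι', hι', hG', hiso, hPG'⟩ := h₄ (J ^ N) (hsupp N ξ hξ)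
  have hGc : Coh.IsCoh G' :=
    M1.isCoh_of_mono (ι' ≫ Dual3.idealMulι (J ^ N) G) hG hG'
  have hsurj' : Function.Surjective (stL (ι' ≫ ι ≫ ψ) ξ) := fun b => by
    have hψξ : Function.Surjective (stL ψ ξ) := by
      intro b
      haveI : IsIso ((Scheme.Modules.toPresheaf X ⋙ TopCat.Presheaf.stalkFunctor _ (U.ι ⟨ξ, hξ⟩)).map ψ) :=
        (NatIso.isIso_map_iff (Scheme.Modules.restrictStalkNatIso U.ι ⟨ξ, hξ⟩) ψ).1
          (Functor.map_isIso (Scheme.Modules.toPresheaf (U : Scheme.{u}) ⋙ TopCat.Presheaf.stalkFunctor _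
            (⟨ξ, hξ⟩ : U)) (R.map ψ))
      exact (ConcreteCategory.bijective_of_isIso
        ((Scheme.Modules.toPresheaf X ⋙ TopCat.Presheaf.stalkFunctor _ (U.ι ⟨ξ, hξ⟩)).map ψ)).2 b
    obtain ⟨a, rfl⟩ := hψξ b
    haveI := hiso
    obtain ⟨a', ha'⟩ := (ConcreteCategory.bijective_of_isIso
      ((TopCat.Presheaf.stalkFunctor _ ξ).map (ι' ≫ Dual3.idealMulι (J ^ N) G).mapPresheaf)).2 (stL ιn ξ a)
    refine ⟨a', ?_⟩
    rw [stL_comp, stL_comp]
    refine congrArg (stL ψ ξ) (stL_injective_of_mono ιn ξ ?_)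
    rw [← stL_comp, ← stL_comp, hι]
    exact ha'
  have hc : Coh.IsCoh (cokernel (ι' ≫ ι ≫ ψ)) := M1.isCoh_cokernel hGc.1 hT _
  exact h₁ _ (shortExact_cokernel _) hGc hT hc hPG'
    (hsmall _ hc ((support_subset_of_epi (cokernel.π _)).trans hTZ) ((notMem_support_cokernel_iff _ ξ).2 hsurj'))

end Groth.Agent.IdealMulL
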